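import Cfsg.Agent.Mrg.Omega.NOThreeL.RLev.HatNL
import Cfsg.Agent.Mrg.Omega.NOThreeL.RLev.HatLow
import Cfsg.Agent.Mrg.Omega.NOThreeL.RRed.FourTree
import Cfsg.Agent.Mrg.Omega.NO3b.BasePt.Final

section


/-!
# Box R of NO-3L: some level moves `V*` (helper492 #26533, helper812, helper319)

* **`exists_levX`** : box R, `V*` FF: `J(S)` moves `V* = Wd S`, or `nxtX S X` does, for some level `(K, X)` over `V*`;
* `exists_lev_wc` : the same with more information: `K`, `nxtX S X` weakly closed in `S`, `Y ≤ N_G(K)`.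
-/

set_option autoImplicit false

namespace Cfsg.Agent.Omega.NOThreeL.RLev

open Subgroup Cfsg Cfsg.Agent.Omega.MinPar Cfsg.Agent.Omega.Frame Cfsg.Agent.Omega.FrameNOFF
open Cfsg.Agent.ZN (o2 zc zl jj)
open Cfsg.Agent.Omega.NO3b.Wc (WC)
open Cfsg.Agent.Omega.NO3S.Level (Lev)
open Cfsg.Agent.Omega.NOThreeL.Merge (MZ)
open Cfsg.Agent.Omega.NOThreeL.Star (YS)
open Cfsg.Agent.Omega.NOThreeL.RTreeF (RBF)
open Cfsg.Agent.Omega.NOThreeL.RRed (Wd)
open Cfsg.Agent.Omega.NO3b.EndX (AbsP)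
open Cfsg.Agent.Omega.ML.Final (MLK)

universe u

variable {G : Type u} [Group G] [Finite G] {S : Sylow 2 G}

/-- **Some level moves `V*`.** -/
theorem exists_lev_wc (ml : MLK.{u, u}) (ha : AbsP.{u, u}) (h : RBF S) :
    ¬ jj (S : Subgroup G) ≤ centralizer (zl (S : Subgroup G) (YS (S : Subgroup G)) : Set G) ∨
    ∃ K X : Subgroup G, Lev (S : Subgroup G) K ∧ X ≤ zc K ∧ normalizer (K : Set G) ≤ normalizer (X : Set G) ∧
      zl (S : Subgroup G) (YS (S : Subgroup G)) ≤ X ∧ YS (S : Subgroup G) ≤ normalizer (K : Set G) ∧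
      WC (S : Subgroup G) K ∧ WC (S : Subgroup G) (nxtX (S : Subgroup G) X) ∧
      ¬ nxtX (S : Subgroup G) X ≤ centralizer (zl (S : Subgroup G) (YS (S : Subgroup G)) : Set G) :=
  exists_levX_of h (fun _ r => NO3b.BasePt.false_of_nfRoot h.ctx ml ha r) fun _ _ H => H.low h.ex

/-- **Some level moves `V*`.** -/
theorem exists_levX (ml : MLK.{u, u}) (ha : AbsP.{u, u}) (h : RBF S) :
    ¬ jj (S : Subgroup G) ≤ centralizer (Wd (S : Subgroup G) : Set G) ∨
      ∃ K X, RRed.FourTree.LevX (S : Subgroup G) K X ∧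
        ¬ RRed.FourTree.nxtX (S : Subgroup G) X ≤ centralizer (Wd (S : Subgroup G) : Set G) := by
  rcases exists_lev_wc ml ha h with h1 | ⟨K, X, h1, h2, h3, h4, h5, -, -, h6⟩
  · exact Or.inl h1
  · exact Or.inr ⟨K, X, { toLev := h1, Xle := h2, Xn := h3, VX := h4, MX := h5.trans h3 }, h6⟩

end Cfsg.Agent.Omega.NOThreeL.RLev

end

section


/-!
# Box R of NO-3L: the level `(W^, V^)` moves `V*`

`W^` = the LARGEST weakly closed subgroup of `S` in `C_S(V*)`, `V^ = ⟨Z^{N(W^)}⟩`.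

* `TopLev S K X` : `K = W^`, `V* ≤ X ≤ Ω₁(Z(K))`, with all fields; `HatLev S K X` : the same with `X = V^`;
* **`exists_hatLev`** : box R: `J(S)` moves `V*`, or `HatLev S K X` for some `(K, X)`;
* `prinW` : PRINCIPLE' of helper492 with `J(S) ≤ C(V*)` only (no condition on the offenders of `S` on `V^`);
* `TopLev.levX` : `FourTree.LevX S K X`;
* `topLev_of` : `TopLev S W^ X` for every `X` between `V*` and `Ω₁(Z(W^))` with `N(W^) ≤ N(X)`, moved by `nxtX S X`.
-/

set_option autoImplicit false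
set_option linter.unusedSectionVars false

namespace Cfsg.Agent.Omega.NOThreeL.RLev

open Subgroup Cfsg Cfsg.Agent.Omega.MinPar Cfsg.Agent.Omega.Frame Cfsg.Agent.Omega.FrameNOFF
open Cfsg.Agent.ZN (o2 zc zl jj)
open Cfsg.Agent.ZN.ChoiceBase hiding mem_zc
open Cfsg.Agent.Omega.Node.NO3L Cfsg.Agent.Omega.NOThreeL.Basic
open Cfsg.Agent.Omega.NO3b.Bang
open Cfsg.Agent.Omega.NO3b.Wc (WC WH ML VL QL cj_sSup wc_WH WH_le WH_le_S le_WH mem_ML_of_le ML_le_norm_V)
open Cfsg.Agent.Omega.NOThreeL.Star (YS le_YS S_le_YS)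
open Cfsg.Agent.Omega.NO3S.Level (Lev)
open Cfsg.Agent.Omega.NOThreeL.RTreeF (RBF)
open Cfsg.Agent.Omega.NOThreeL.RRed (Wd)
open Cfsg.Agent.Omega.NO3b.EndX (AbsP)
open Cfsg.Agent.Omega.ML.Final (MLK)
open Cfsg.Agent.MinSimple.VModule (zc_le le_normalizer_o2 le_normalizer_zl zc_le_zl zl_le o2_isPGroup
  o2_le le_o2 zc_sq mem_zc normalizer_le_normalizer_zc)

universe u

variable {G : Type u} [Group G] [Finite G] {S : Sylow 2 G}

/-- `K = W^` the largest weakly closed subgroup of `S` in `C_S(V*)`, `V* ≤ X ≤ Ω₁(Z(K))` normalised by `N(K)`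
(`X = V^ = ⟨Z^{N(K)}⟩` or `X = Ω₁(Z(K))`), `nxtX S X` moves `V*`. -/
structure TopLev (S : Sylow 2 G) (K X : Subgroup G) : Prop where
  toLev : Lev (S : Subgroup G) K
  wc : WC (S : Subgroup G) K
  /-- `K ≤ C(V*)` -/
  cent : K ≤ centralizer (zl (S : Subgroup G) (YS (S : Subgroup G)) : Set G)
  /-- `K` is the largest one -/
  max : ∀ D : Subgroup G, WC (S : Subgroup G) D →
    D ≤ centralizer (zl (S : Subgroup G) (YS (S : Subgroup G)) : Set G) → D ≤ K
  eqK : K = WH (S : Subgroup G) (YS (S : Subgroup G))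
  Xle : X ≤ zc K
  Xn : normalizer (K : Set G) ≤ normalizer (X : Set G)
  /-- `V* ≤ X` -/
  VX : zl (S : Subgroup G) (YS (S : Subgroup G)) ≤ X
  /-- `Y = ⟨P*(S)⟩ ≤ N(K)` -/
  YK : YS (S : Subgroup G) ≤ normalizer (K : Set G)
  wcn : WC (S : Subgroup G) (nxtX (S : Subgroup G) X)
  mv : ¬ nxtX (S : Subgroup G) X ≤ centralizer (zl (S : Subgroup G) (YS (S : Subgroup G)) : Set G)

/-- `TopLev` with `X = V^ = ⟨Z^{N(K)}⟩` -/
structure HatLev (S : Sylow 2 G) (K X : Subgroup G) : Prop extends TopLev S K X where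
  eqX : X = zl (S : Subgroup G) (normalizer (K : Set G))

theorem TopLev.levX {K X : Subgroup G} (h : TopLev S K X) : RRed.FourTree.LevX (S : Subgroup G) K X :=
  { toLev := h.toLev, Xle := h.Xle, Xn := h.Xn, VX := h.VX, MX := h.YK.trans h.Xn }

/-- **The level `(W^, V^)`.** -/
theorem exists_hatLev (ml : MLK.{u, u}) (ha : AbsP.{u, u}) (h : RBF S) :
    ¬ jj (S : Subgroup G) ≤ centralizer (zl (S : Subgroup G) (YS (S : Subgroup G)) : Set G) ∨
    ∃ K X : Subgroup G, HatLev S K X := by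
  by_cases hj : jj (S : Subgroup G) ≤ centralizer (zl (S : Subgroup G) (YS (S : Subgroup G)) : Set G)
  · right
    by_cases hn : nxtX (S : Subgroup G) (VL (S : Subgroup G) (YS (S : Subgroup G))) ≤
        centralizer (zl (S : Subgroup G) (YS (S : Subgroup G)) : Set G)
    · exfalso
      have H := hat_of hj hn h
      have hSM : (S : Subgroup G) ≤ ML (S : Subgroup G) (YS (S : Subgroup G)) := H.root.le
      have hZ : zc (S : Subgroup G) ≠ ⊥ := MinSimple.Basic.zc_ne_bot S.isPGroup' (h.ctx.sylow_ne_bot S)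
      refine NO3b.BasePt.false_of_nfRoot h.ctx ml ha
        (nfRoot_of (M := ML (S : Subgroup G) (YS (S : Subgroup G))) hSM (nn_V hj hn) hZ (H.low h.ex) ?_)
      intro U hU h2 h3
      exact eq_bot_of_norm h.ctx S h.full hU (fun P hP => (le_YS hP).trans (ys_le_M.trans h2)) h3
    · exact ⟨WH (S : Subgroup G) (YS (S : Subgroup G)), VL (S : Subgroup G) (YS (S : Subgroup G)),
        { toLev := lev_W hj
          wc := wc_WH _ _
          cent := (WH_le _ _).trans inf_le_right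
          max := fun D h1 h2 => le_WH h1 (le_inf h1.le h2)
          eqK := rfl
          eqX := rfl
          Xle := V_le_zcW hj
          Xn := le_normalizer_zl _ _
          VX := vs_le_V
          YK := ys_le_M
          wcn := nxt_wc hj
          mv := hn }⟩
  · exact Or.inl hj

namespace TopLev

variable {K X : Subgroup G} (h : TopLev S K X)
include h

theorem le_S : K ≤ (S : Subgroup G) := h.wc.le

/-- `K ≤ C(X)` -/
theorem centX : K ≤ centralizer (X : Set G) :=
  cent_symm (h.Xle.trans fun _ hx => mem_centralizer_iff.2 fun y hy => (mem_zc.1 hx).2.1 y hy)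

/-- A subgroup of `S` above `K` which is `N(K)`-closed in `S` is weakly closed. -/
theorem wc_of {D : Subgroup G} (hKD : K ≤ D) (hD : D ≤ (S : Subgroup G))
    (hc : ∀ g ∈ normalizer (K : Set G), cj g D ≤ (S : Subgroup G) → cj g D ≤ D) : WC (S : Subgroup G) D := by
  refine ⟨hD, fun g hg => ?_⟩
  have h1 : cj g K = K := h.wc.eq g ((cj_mono g hKD).trans hg)
  exact Subgroup.eq_of_le_of_card_ge (hc g (by rw [mem_normalizer_iff_cj]; exact h1) hg) (card_cj _ _).ge

/-- **PRINCIPLE'**: an `N(K)`-invariant family of subgroups with a member in `S` moving `X`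
has a member in `S` which moves some `V_P`, `P ∈ P*(S)`. -/
theorem prin (FF : Set (Subgroup G)) (hF : ∀ A ∈ FF, ∀ m ∈ normalizer (K : Set G), cj m A ∈ FF)
    (hex : ∃ A ∈ FF, A ≤ (S : Subgroup G) ∧ ¬ A ≤ centralizer (X : Set G)) :
    ∃ B ∈ FF, B ≤ (S : Subgroup G) ∧ ∃ P, IsParS (S : Subgroup G) P ∧
      ¬ B ≤ centralizer (zl (S : Subgroup G) P : Set G) := by
  by_contra hcon
  push Not at hcon
  obtain ⟨A, hA, hAS, hAV⟩ := hex
  set D : Subgroup G := K ⊔ sSup {B | B ∈ FF ∧ B ≤ (S : Subgroup G)} with hK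
  have hKS : D ≤ (S : Subgroup G) := sup_le h.le_S (sSup_le fun B hB => hB.2)
  have hKwc : WC (S : Subgroup G) D := by
    refine h.wc_of le_sup_left hKS fun g hg hgS => ?_
    have h3 := hgS
    change Subgroup.map _ _ ≤ _
    rw [hK, Subgroup.map_sup]
    refine sup_le_sup (cj_eq_of_mem_normalizer hg).le ?_
    change cj g (sSup {B | B ∈ FF ∧ B ≤ (S : Subgroup G)}) ≤ _
    rw [cj_sSup]
    refine iSup_le fun B => ?_
    have h5 : cj g (B : Subgroup G) ≤ (S : Subgroup G) :=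
      (cj_mono g ((le_sSup B.2).trans le_sup_right)).trans hgS
    exact le_sSup (a := cj g (B : Subgroup G)) ⟨hF _ B.2.1 g hg, h5⟩
  have hKP : ∀ P, IsParS (S : Subgroup G) P → D ≤ o2 P := by
    intro P hP
    refine (le_inf hKS (sup_le ?_ (sSup_le fun B hB => hcon B hB.1 hB.2 P hP))).trans (cs_le_o2 hP)
    exact h.cent.trans (centralizer_le (Star.zl_mono _ (le_YS hP)))
  have hY : YS (S : Subgroup G) ≤ normalizer (D : Set G) := sSup_le fun P hP => par_le_of_wc hKwc hP (hKP P hP)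
  have hKc : D ≤ centralizer (zl (S : Subgroup G) (YS (S : Subgroup G)) : Set G) := by
    apply cent_symm
    refine zl_le ?_ (hY.trans ?_)
    · intro z hz
      rw [mem_centralizer_iff]
      intro k hk
      exact (mem_zc.1 hz).2.1 k (hKS hk)
    · intro y hy
      rw [mem_normalizer_iff_cj, cj_centralizer, cj_eq_of_mem_normalizer hy]
  have h6 : A ≤ D := (le_sSup (s := {B | B ∈ FF ∧ B ≤ (S : Subgroup G)}) ⟨hA, hAS⟩).trans le_sup_right
  exact hAV (h6.trans ((h.max D hKwc hKc).trans h.centX))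

/-- the same for an `N(K)`-invariant family and `V*` -/
theorem prinS (FF : Set (Subgroup G)) (hF : ∀ A ∈ FF, ∀ m ∈ normalizer (K : Set G), cj m A ∈ FF)
    (hex : ∃ A ∈ FF, A ≤ (S : Subgroup G) ∧ ¬ A ≤ centralizer (X : Set G)) :
    ∃ B ∈ FF, B ≤ (S : Subgroup G) ∧
      ¬ B ≤ centralizer (zl (S : Subgroup G) (YS (S : Subgroup G)) : Set G) := by
  obtain ⟨B, h1, h2, P, hP, h3⟩ := h.prin FF hF hex
  exact ⟨B, h1, h2, fun h4 => h3 (h4.trans (centralizer_le (Star.zl_mono _ (le_YS hP))))⟩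

end TopLev

/-- `⟨best offenders of S on X⟩ C_S(X)` is weakly closed (`K` w.c., `K ≤ C(X)`, `N(K) ≤ N(X)`). -/
theorem nxtX_wc {K X : Subgroup G} (hK : WC (S : Subgroup G) K) (hX : X ≤ zc K)
    (Xn : normalizer (K : Set G) ≤ normalizer (X : Set G)) : WC (S : Subgroup G) (nxtX (S : Subgroup G) X) := by
  refine ⟨nxtX_le _ _, fun g hg => ?_⟩
  have hc : K ≤ centralizer (X : Set G) :=
    cent_symm (hX.trans fun _ hx => mem_centralizer_iff.2 fun y hy => (mem_zc.1 hx).2.1 y hy)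
  have h1 : K ≤ nxtX (S : Subgroup G) X := (le_inf hK.le hc).trans (inf_cent_le _ _)
  have h2 : cj g K = K := hK.eq g ((cj_mono g h1).trans hg)
  have hgV : g ∈ normalizer (X : Set G) := Xn (by rw [mem_normalizer_iff_cj]; exact h2)
  have h4 : cj g (nxtX (S : Subgroup G) X) ≤ nxtX (S : Subgroup G) X := by
    have hg' := hg
    rw [nxtX] at hg' ⊢
    change Subgroup.map _ _ ≤ _
    rw [Subgroup.map_sup]
    refine sup_le ((le_inf ?_ ?_).trans le_sup_left) (le_trans ?_ le_sup_right)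
    · exact (cj_mono g le_sup_left).trans hg'
    · refine (cj_mono g inf_le_right).trans ?_
      rw [cj_centralizer, cj_eq_of_mem_normalizer hgV]
    · change cj g (sSup {A | A ≤ (S : Subgroup G) ∧ NO1.BestOff.Best X A}) ≤ _
      rw [cj_sSup]
      refine iSup_le fun B => ?_
      exact le_sSup (a := cj g (B : Subgroup G))
        ⟨(cj_mono g ((le_sSup B.2).trans le_sup_right)).trans hg', B.2.2.conj hgV⟩
  exact Subgroup.eq_of_le_of_card_ge h4 (card_cj _ _).ge

/-- `TopLev S W^ X` -/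
theorem topLev_of (hj : jj (S : Subgroup G) ≤ centralizer (zl (S : Subgroup G) (YS (S : Subgroup G)) : Set G))
    {X : Subgroup G} (VX : zl (S : Subgroup G) (YS (S : Subgroup G)) ≤ X)
    (hX : X ≤ zc (WH (S : Subgroup G) (YS (S : Subgroup G))))
    (Xn : normalizer (WH (S : Subgroup G) (YS (S : Subgroup G)) : Set G) ≤ normalizer (X : Set G))
    (hn : ¬ nxtX (S : Subgroup G) X ≤ centralizer (zl (S : Subgroup G) (YS (S : Subgroup G)) : Set G)) :
    TopLev S (WH (S : Subgroup G) (YS (S : Subgroup G))) X where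
  toLev := lev_W hj
  wc := wc_WH _ _
  cent := (WH_le _ _).trans inf_le_right
  max := fun _ h1 h2 => le_WH h1 (le_inf h1.le h2)
  eqK := rfl
  Xle := hX
  Xn := Xn
  VX := VX
  YK := ys_le_M
  wcn := nxtX_wc (wc_WH _ _) hX Xn
  mv := hn

end Cfsg.Agent.Omega.NOThreeL.RLev

end
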