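import Cfsg.Agent.Mrg.Omega.NOThreeL.RLow.Final


/-!
# Box R: the front without galleries (helper492 #26533), part 1: states

`Hyp V F` (`F` a maximal bad subgroup of `V`), `X = C_G(F)`, `E = V ∩ O₂(X)`, `W = ⟨E^X⟩`, `M ≤ N_G(V)`.

* `St S M V F B` : a state: `F ≤ B ≤ W`, `B` elementary abelian, `X`-invariant; a line `V_P^m ≤ E` (`m ∈ M`,
  `P ∈ P*(S)`) with `B ≤ S^m` centralises `B`;
* `AC V F B = C_W(B)`;
* `St.conj`, `St.enlarge`, `St.moves`, `St.cent_le`;
* `St.sit` : the situation `SitG`.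
-/

set_option autoImplicit false
set_option linter.unusedSectionVars false

namespace Cfsg.Agent.Omega.NOThreeL.RLev.Hat

open Subgroup Cfsg
open Cfsg.Agent.ZN hiding mem_zc le_o2 le_normalizer_o2 zl_le
open Cfsg.Agent.Omega.MinPar Cfsg.Agent.Omega.Frame
open Cfsg.Agent.Omega.FrameNOFF
open Cfsg.Agent.Omega.NoFF.Basic (conj_conj mem_conj conj_le_iff conj_le_centralizer comm_symm comm_mono
  Z_le_V V_le Sys)
open Cfsg.Agent.Omega.NOne.Flat (EE WW Hyp Bad)
open Cfsg.Agent.Omega.NOThreeL.Basic (CaseA)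
open Cfsg.Agent.Omega.NOThreeL.Pair (conj_eq_of_mem conj_le_normalizer)
open Cfsg.Agent.Omega.Node.NO3L
open Cfsg.Agent.Omega.NOThreeL.RZ (le_norm_V)
open Cfsg.Agent.Omega.NOThreeL.RLow (SitG good_of_ne)
open Cfsg.Agent.MinSimple.VModule (zc_le_zl zc_le zl_le_zc o2_isPGroup le_normalizer_o2
  mem_zc le_o2 o2_le le_centralizer_zc zc_sq zc_comm normalizer_le_normalizer_zc)
open scoped Pointwise

universe u

variable {G : Type u} [Group G]

/-- `C_W(B)` -/
def AC (V F B : Subgroup G) : Subgroup G := WW V F ⊓ centralizer (B : Set G)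

/-- `⟨l^X⟩` -/
abbrev NX (l F : Subgroup G) : Subgroup G := NoFF.Basic.V l (centralizer (F : Set G))

/-- **A state.** -/
structure St [Finite G] (S : Sylow 2 G) (M V F B : Subgroup G) : Prop where
  hyp : Hyp V F
  FB : F ≤ B
  BW : B ≤ WW V F
  XB : centralizer (F : Set G) ≤ normalizer (B : Set G)
  comm : B ≤ centralizer (B : Set G)
  sq : ∀ b ∈ B, b ^ 2 = 1
  inv : ∀ m ∈ M, ∀ P, IsParS (S : Subgroup G) P → MulAut.conj m • zl (S : Subgroup G) P ≤ EE V F →
    B ≤ MulAut.conj m • (S : Subgroup G) →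
      MulAut.conj m • zl (S : Subgroup G) P ≤ centralizer (B : Set G)

theorem conj_inv_conj (x : G) (A : Subgroup G) : MulAut.conj x⁻¹ • (MulAut.conj x • A) = A := by
  rw [conj_conj, inv_mul_cancel, map_one, one_smul]

theorem conj_conj_inv (x : G) (A : Subgroup G) : MulAut.conj x • (MulAut.conj x⁻¹ • A) = A := by
  rw [conj_conj, mul_inv_cancel, map_one, one_smul]

/-- two commuting subgroups of exponent 2 -/
theorem sup_sq {A B : Subgroup G} (hA : ∀ a ∈ A, a ^ 2 = 1) (hB : ∀ b ∈ B, b ^ 2 = 1)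
    (h : A ≤ centralizer (B : Set G)) : ∀ b ∈ A ⊔ B, b ^ 2 = 1 := by
  intro b hb
  rw [← SetLike.mem_coe, Subgroup.coe_mul_of_left_le_normalizer_right _ _ (h.trans (centralizer_le_normalizer _)),
    Set.mem_mul] at hb
  obtain ⟨a, ha, f, hf, rfl⟩ := hb
  have hcm : Commute a f := (mem_centralizer_iff.1 (h ha) f hf).symm
  rw [hcm.mul_pow, hA a ha, hB f hf, one_mul]

/-- `⟨l^X⟩` has exponent 2 if it is abelian -/
theorem NX_sq {l F : Subgroup G} (hl : ∀ a ∈ l, a ^ 2 = 1) (hc : NX l F ≤ centralizer (NX l F : Set G)) :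
    ∀ b ∈ NX l F, b ^ 2 = 1 := by
  let K : Subgroup G :=
    { carrier := {b | b ∈ NX l F ∧ b ^ 2 = 1}
      one_mem' := ⟨one_mem _, one_pow _⟩
      mul_mem' := by
        rintro a b ⟨ha, ha2⟩ ⟨hb, hb2⟩
        refine ⟨mul_mem ha hb, ?_⟩
        have hcm : Commute a b := (mem_centralizer_iff.1 (hc ha) b hb).symm
        rw [hcm.mul_pow, ha2, hb2, one_mul]
      inv_mem' := by
        rintro a ⟨ha, ha2⟩
        exact ⟨inv_mem ha, by rw [inv_pow, ha2, inv_one]⟩ }
  have h1 : NX l F ≤ K := by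
    refine V_le fun x hx b hb => ⟨Z_le_V hx hb, ?_⟩
    rw [mem_conj] at hb
    have e : b ^ 2 = x * (x⁻¹ * b * x) ^ 2 * x⁻¹ := by rw [pow_two, pow_two]; group
    rw [e, hl _ hb]; group
  exact fun b hb => (h1 hb).2

section base

variable {V F B : Subgroup G}

theorem AC_le_W : AC V F B ≤ WW V F := inf_le_left

theorem AC_le_C : AC V F B ≤ centralizer (B : Set G) := inf_le_right

theorem conj_AC {m : G} (hm : m ∈ normalizer (V : Set G)) :
    MulAut.conj m • AC V F B = AC V (MulAut.conj m • F) (MulAut.conj m • B) := by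
  rw [AC, AC, Subgroup.smul_inf, NOne.Flat.WW_conj hm, NOne.Flat.conj_centralizer]

end base

namespace St

variable [Finite G] {S : Sylow 2 G} {M V F B : Subgroup G} (h : St S M V F B)
include h

/-- `B ≤ C_W(B)` -/
theorem B_le : B ≤ AC V F B := le_inf h.BW h.comm

theorem X_norm_A : centralizer (F : Set G) ≤ normalizer (AC V F B : Set G) := by
  intro x hx
  have h1 : MulAut.conj x • AC V F B = AC V F B := by
    rw [AC, Subgroup.smul_inf, NOne.Flat.Hyp.conj_W hx, NOne.Flat.conj_centralizer, conj_eq_of_mem (h.XB hx)]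
  rw [ChoiceBase.mem_normalizer_iff_cj]
  exact h1

/-- a subgroup of `W` centralising `B`: its `X`-conjugates also -/
theorem conj_le_A {l : Subgroup G} (hE : l ≤ EE V F) (hc : l ≤ centralizer (B : Set G)) {x : G}
    (hx : x ∈ centralizer (F : Set G)) : MulAut.conj x • l ≤ AC V F B := by
  refine le_inf ((conj_le_iff.2 hE).trans (NOne.Flat.Hyp.conjE_le_W hx)) ?_
  have h1 := conj_le_centralizer (g := x) hc
  rwa [conj_eq_of_mem (h.XB hx)] at h1

/-- the start -/
theorem _root_.Cfsg.Agent.Omega.NOThreeL.RLev.Hat.st_self {V F : Subgroup G} (hyp : Hyp V F) :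
    St S M V F F where
  hyp := hyp
  FB := le_rfl
  BW := hyp.F_le_E.trans (by
    have := NOne.Flat.Hyp.conjE_le_W (V := V) (F := F) (one_mem (centralizer (F : Set G)))
    rwa [map_one, one_smul] at this)
  XB := centralizer_le_normalizer _
  comm := hyp.F_le_V.trans hyp.V_le_X
  sq := fun b hb => hyp.sq b (hyp.F_le_V hb)
  inv := by
    intro m _ P _ hE _
    exact (hE.trans inf_le_left).trans hyp.V_le_X

/-- conjugation by `m ∈ M` -/
theorem conj (hMV : M ≤ normalizer (V : Set G)) {g : G} (hg : g ∈ M) :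
    St S M V (MulAut.conj g • F) (MulAut.conj g • B) where
  hyp := h.hyp.conj (hMV hg)
  FB := conj_le_iff.2 h.FB
  BW := by
    rw [← NOne.Flat.WW_conj (hMV hg)]
    exact conj_le_iff.2 h.BW
  XB := by
    rw [← NOne.Flat.conj_centralizer]
    exact conj_le_normalizer h.XB
  comm := conj_le_centralizer h.comm
  sq := by
    intro b hb
    rw [mem_conj] at hb
    have e : b ^ 2 = g * (g⁻¹ * b * g) ^ 2 * g⁻¹ := by rw [pow_two, pow_two]; group
    rw [e, h.sq _ hb]; group
  inv := by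
    intro m hm P hP hE hB
    have h1 := h.inv (g⁻¹ * m) (mul_mem (inv_mem hg) hm) P hP (by
      rw [← conj_conj]
      have h2 := conj_le_iff (g := g⁻¹).2 hE
      rwa [← NOne.Flat.EE_conj (hMV hg), conj_inv_conj] at h2) (by
      rw [← conj_conj]
      have h2 := conj_le_iff (g := g⁻¹).2 hB
      rwa [conj_inv_conj] at h2)
    have h2 := conj_le_centralizer (g := g) h1
    rwa [← conj_conj, conj_conj_inv] at h2

/-- **ENLARGE** (#26533 (3)). -/
theorem enlarge (hc : IsCharacteristicTwoType G) (hm : ¬ FF (S : Subgroup G))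
    (hA : AC V F B ≤ (S : Subgroup G)) (h1M : (1 : G) ∈ M) {P : Subgroup G}
    (hP : IsParS (S : Subgroup G) P) (hl : zl (S : Subgroup G) P ≤ EE V F) :
    St S M V F (B ⊔ NX (zl (S : Subgroup G) P) F) := by
  have sys : Sys (S : Subgroup G) (zc (S : Subgroup G)) (PS (S : Subgroup G)) := FrameNOFF.sys hc S hm
  have hlB : zl (S : Subgroup G) P ≤ centralizer (B : Set G) := by
    have h1 := h.inv 1 h1M P hP (by rwa [map_one, one_smul]) (by
      rw [map_one, one_smul]; exact h.B_le.trans hA)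
    rwa [map_one, one_smul] at h1
  have hlA : ∀ x ∈ centralizer (F : Set G), MulAut.conj x • zl (S : Subgroup G) P ≤ AC V F B :=
    fun x hx => h.conj_le_A hl hlB hx
  have hlP : ∀ x ∈ centralizer (F : Set G), MulAut.conj x • zl (S : Subgroup G) P ≤ P :=
    fun x hx => ((hlA x hx).trans hA).trans hP.le
  have hll : ∀ x ∈ centralizer (F : Set G),
      MulAut.conj x • zl (S : Subgroup G) P ≤ centralizer (zl (S : Subgroup G) P : Set G) := by
    intro x hx
    have h1 := sys.noff' (g := x) (h := 1) hP hP (by rw [map_one, one_smul]; exact hlP x hx) (by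
      rw [map_one, one_smul]
      have h2 := conj_le_iff (g := x).2 (hlP x⁻¹ (inv_mem hx))
      rw [conj_conj_inv] at h2
      exact h2)
    rwa [map_one, one_smul] at h1
  have hNB : NX (zl (S : Subgroup G) P) F ≤ centralizer (B : Set G) :=
    V_le fun x hx => (hlA x hx).trans AC_le_C
  have hNN : NX (zl (S : Subgroup G) P) F ≤ centralizer (NX (zl (S : Subgroup G) P) F : Set G) := by
    refine V_le fun x hx => comm_symm (V_le fun y hy => ?_)
    have h1 := hll (x⁻¹ * y) (mul_mem (inv_mem hx) hy)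
    have h2 := conj_le_centralizer (g := x) h1
    rwa [← conj_conj, conj_conj_inv] at h2
  have hls : ∀ a ∈ zl (S : Subgroup G) P, a ^ 2 = 1 := fun a ha => h.hyp.sq a (hl ha).1
  refine
    { hyp := h.hyp
      FB := h.FB.trans le_sup_left
      BW := sup_le h.BW (V_le fun x hx => (hlA x hx).trans AC_le_W)
      XB := NO3b.Bang.le_normalizer_sup h.XB (le_norm_V _ _)
      comm := ?_
      sq := ?_
      inv := ?_ }
  · refine sup_le (comm_symm (sup_le h.comm hNB)) (comm_symm (sup_le (comm_symm hNB) hNN))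
  · exact sup_sq h.sq (NX_sq hls hNN) (comm_symm hNB)
  · intro m hm Q hQ hE hB
    have h1 := h.inv m hm Q hQ hE (le_sup_left.trans hB)
    have h2 : ∀ x ∈ centralizer (F : Set G), MulAut.conj x • (MulAut.conj m • zl (S : Subgroup G) Q) ≤ P :=
      fun x hx => ((h.conj_le_A hE h1 hx).trans hA).trans hP.le
    refine comm_symm (sup_le (comm_symm h1) (V_le fun x hx => ?_))
    refine sys.noff' (g := x) (h := m) hP hQ ?_ ?_
    · exact (Z_le_V hx).trans ((le_sup_right.trans hB).trans (conj_le_iff.2 hQ.le))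
    · have h3 := conj_le_iff (g := x).2 (h2 x⁻¹ (inv_mem hx))
      rwa [conj_conj_inv] at h3

/-- `C_W(B)` moves `V` (#26533 (4)). -/
theorem moves : ¬ AC V F B ≤ centralizer (V : Set G) := by
  intro h1
  have h2 : B ≤ centralizer (V : Set G) := h.B_le.trans h1
  have h3 : WW V F ≤ centralizer (B : Set G) := by
    refine V_le fun x hx => ?_
    have h4 := conj_le_centralizer (g := x) (comm_symm h2)
    rw [conj_eq_of_mem (h.XB hx)] at h4
    exact (conj_le_iff.2 inf_le_left).trans h4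
  exact NO3b.Union.not_WW_le h.hyp ((le_inf le_rfl h3).trans h1)

/-- `C_V(B) ≤ E` if `V ∩ B > F` (#26533 (6)). -/
theorem cent_le (hgt : ¬ V ⊓ B ≤ F) : V ⊓ centralizer (B : Set G) ≤ EE V F := by
  set I : Subgroup G := V ⊓ B with hI
  have hFI : F ≤ I := le_inf h.hyp.F_le_V h.FB
  have hI1 : V ≤ o2 (centralizer (I : Set G)) := by
    by_contra hn
    have h1 := h.hyp.max I ⟨fun h0 => hgt (h0 ▸ bot_le), inf_le_left, hn⟩ hFI
    exact hgt h1.le
  -- `C_X(B)`
  set D : Subgroup G := centralizer (F : Set G) ⊓ centralizer (B : Set G) with hD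
  have hDI : D ≤ centralizer (I : Set G) := inf_le_right.trans (centralizer_le inf_le_right)
  have hDn : centralizer (F : Set G) ≤ normalizer (D : Set G) := by
    intro x hx
    have h1 : MulAut.conj x • D = D := by
      rw [hD, Subgroup.smul_inf, NOne.Flat.conj_centralizer, NOne.Flat.conj_eq_of_cent hx,
        NOne.Flat.conj_centralizer, conj_eq_of_mem (h.XB hx)]
    rw [ChoiceBase.mem_normalizer_iff_cj]
    exact h1
  intro v hv
  have hvX : v ∈ centralizer (F : Set G) := h.hyp.V_le_X hv.1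
  have h2 : v ∈ o2 (centralizer (I : Set G)) ⊓ D := ⟨hI1 hv.1, hvX, hv.2⟩
  have h3 : o2 (centralizer (I : Set G)) ⊓ D ≤ o2 D := by
    refine le_o2 inf_le_right ((o2_isPGroup _).to_le inf_le_left) ?_
    intro d hd
    have h4 : MulAut.conj d • (o2 (centralizer (I : Set G)) ⊓ D) = o2 (centralizer (I : Set G)) ⊓ D := by
      rw [Subgroup.smul_inf, conj_eq_of_mem (le_normalizer_o2 _ (hDI hd)),
        conj_eq_of_mem (Subgroup.le_normalizer hd)]
    rw [ChoiceBase.mem_normalizer_iff_cj]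
    exact h4
  have h5 : o2 D ≤ o2 (centralizer (F : Set G)) := by
    refine le_o2 ((ZN.o2_le D).trans inf_le_left) (o2_isPGroup _) ?_
    intro x hx
    have h4 : MulAut.conj x • o2 D = o2 D := by
      rw [NOne.Flat.o2_conj, conj_eq_of_mem (hDn hx)]
    rw [ChoiceBase.mem_normalizer_iff_cj]
    exact h4
  exact ⟨hv.1, h5 (h3 h2)⟩

/-- **The situation** (#26533 (7)). -/
theorem sit (hG : Ctx G) (D : Data (S : Subgroup G)) (notA : ¬ CaseA (S : Subgroup G))
    (hA : AC V F B ≤ (S : Subgroup G)) (hgt : ¬ V ⊓ B ≤ F) (hVS : V ≤ (S : Subgroup G))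
    (hZV : zc (S : Subgroup G) ≤ V) (hLV : ∀ Q, IsParS (S : Subgroup G) Q → zl (S : Subgroup G) Q ≤ V)
    (hgood : ∀ Q, IsParS (S : Subgroup G) Q → zl (S : Subgroup G) Q ≤ EE V F → zl (S : Subgroup G) Q ≤ B)
    {P : Subgroup G} (hP : IsParS (S : Subgroup G) P) (hbad : ¬ zl (S : Subgroup G) P ≤ EE V F)
    (hc : 2 < Nat.card (zc (S : Subgroup G))) :
    SitG {Q | IsParS (S : Subgroup G) Q} S V F (zc (AC V F B)) P := by
  have hZS : (S : Subgroup G) ≤ centralizer (zc (S : Subgroup G) : Set G) := fun s hs =>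
    mem_centralizer_iff.2 fun z hz => ((mem_zc.1 hz).2.1 s hs).symm
  have hBA : B ≤ zc (AC V F B) := fun b hb =>
    mem_zc.2 ⟨h.B_le hb, fun a ha => (mem_centralizer_iff.1 (AC_le_C ha) b hb).symm, h.sq b hb⟩
  have hZA : zc (S : Subgroup G) ≤ zc (AC V F B) := by
    intro z hz
    have h1 : z ∈ centralizer (B : Set G) := comm_symm ((h.B_le.trans hA).trans hZS) hz
    have h2 : z ∈ EE V F := h.cent_le hgt ⟨hZV hz, h1⟩
    have h3 : z ∈ WW V F := by
      have h4 := NOne.Flat.Hyp.conjE_le_W (V := V) (F := F) (one_mem (centralizer (F : Set G)))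
      rw [map_one, one_smul] at h4
      exact h4 h2
    exact mem_zc.2 ⟨⟨h3, h1⟩, fun a ha => (mem_zc.1 hz).2.1 a (hA ha), (mem_zc.1 hz).2.2⟩
  have hpt : ∀ Q, IsParS (S : Subgroup G) Q → ¬ zl (S : Subgroup G) Q ≤ EE V F → ∀ g ∈ Q,
      MulAut.conj g • zc (S : Subgroup G) ⊓ F = ⊥ := by
    intro Q hQ hQE g hg
    by_contra hne
    exact hQE (good_of_ne D notA h.hyp hQ (hLV Q hQ) hg hne)
  have hzA : zc (AC V F B) ≤ AC V F B := ZN.zc_le _
  refine ⟨⟨hG, D, notA, h.hyp, hVS, hP, hLV P hP, hbad, h.FB.trans hBA, hzA.trans AC_le_W,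
    h.X_norm_A.trans (ZN.normalizer_le_normalizer_zc _), ?_, fun b hb => zc_sq _ b hb, hzA.trans hA, ?_, hZA,
    hpt P hP hbad, hc⟩, fun Q hQ => hLV Q hQ, fun Q hQ hE => (hgood Q hQ hE).trans hBA, fun Q hQ => hpt Q hQ⟩
  · intro x hx
    rw [mem_centralizer_iff]
    intro y hy
    exact zc_comm _ _ hy _ hx
  · exact (inf_le_inf_left _ (centralizer_le hBA)).trans hA

end St

end Cfsg.Agent.Omega.NOThreeL.RLev.Hat
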