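import Cfsg.Agent.Mrg.Omega.NOThreeL.RLev.ExistsLev
import Cfsg.Agent.Mrg.Omega.FrameI


/-!
# Box R of NO-3L: the level `(W^, V^)` has no over-offender (text #27445 (1), helper553)

`K = W^`, `X = V^`, `V = V* = zl S (YS S)`.

* `exists_act` : if `S` does not over-offend `V*`, then `S` does not over-offend `X`, and some `A ≤ S` moves `V*`,
  is exact on `V*`, `C_A(V*) = C_A(X)`, `X = V* C_X(A)`, and `A / C_A(X)` is minimal among the exact subgroups of `A`;
* `cs` : `C_S(X) = K`.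
-/

set_option autoImplicit false
set_option linter.unusedSectionVars false

namespace Cfsg.Agent.Omega.NOThreeL.RLev.LevQ

open Subgroup Cfsg Cfsg.Agent.Omega.MinPar Cfsg.Agent.Omega.Frame Cfsg.Agent.Omega.FrameNOFF
open Cfsg.Agent.ZN (o2 zc zl jj)
open Cfsg.Agent.ZN.ChoiceBase hiding mem_zc
open Cfsg.Agent.Omega.NO3b.Wc (WC WH ML VL)
open Cfsg.Agent.Omega.NOThreeL.Star (YS le_YS S_le_YS)
open Cfsg.Agent.Omega.FFThm (ElemM OffM NoOverM)
open Cfsg.Agent.Omega.NO1.BestOff (Best ElemM.mono)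

universe u

variable {G : Type u} [Group G]

section cards

theorem ri (H A : Subgroup G) [Finite G] : H.relIndex A * Nat.card ↥(A ⊓ H) = Nat.card A := by
  have e := relIndex_inf_mul_relIndex (⊥ : Subgroup G) H A
  rw [relIndex_bot_left, bot_inf_eq, relIndex_bot_left, mul_comm, inf_comm] at e
  exact e

/-- `|W| |K| ≤ |J| |W ∩ K|` -/
theorem card_mul_le [Finite G] {W K J : Subgroup G} (hW : W ≤ J) (hK : K ≤ J) :
    Nat.card W * Nat.card K ≤ Nat.card J * Nat.card ↥(W ⊓ K) := by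
  have h4 := ri K J
  rw [inf_eq_right.2 hK] at h4
  have h3 := ri K W
  have hne : K.relIndex J ≠ 0 := by
    intro h0
    rw [h0, zero_mul] at h4
    exact Nat.card_pos.ne h4
  have h2 : K.relIndex W ≤ K.relIndex J := relIndex_le_of_le_right hW hne
  calc Nat.card W * Nat.card K = K.relIndex W * (Nat.card ↥(W ⊓ K) * Nat.card K) := by rw [← h3]; ring
    _ ≤ K.relIndex J * (Nat.card ↥(W ⊓ K) * Nat.card K) := Nat.mul_le_mul_right _ h2
    _ = Nat.card J * Nat.card ↥(W ⊓ K) := by rw [← h4]; ring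

/-- equality in `card_mul_le` -/
theorem le_sup_of_card [Finite G] {W K J : Subgroup G} (hW : W ≤ J) (hK : K ≤ J)
    (h : Nat.card J * Nat.card ↥(W ⊓ K) ≤ Nat.card W * Nat.card K) : J ≤ W ⊔ K := by
  have h1 := card_mul_le (J := W ⊔ K) (le_sup_left : W ≤ W ⊔ K) (le_sup_right : K ≤ W ⊔ K)
  have h2 : Nat.card J ≤ Nat.card ↥(W ⊔ K) := Nat.le_of_mul_le_mul_right (h.trans h1) Nat.card_pos
  exact (Subgroup.eq_of_le_of_card_ge (sup_le hW hK) h2).ge

end cards

section fam

variable {X A : Subgroup G} {n : G}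

theorem cj_cent (hn : n ∈ normalizer (X : Set G)) : cj n (centralizer (X : Set G)) = centralizer (X : Set G) := by
  rw [cj_centralizer, cj_eq_of_mem_normalizer hn]

theorem elemM_cj (h : ElemM X A) (hn : n ∈ normalizer (X : Set G)) : ElemM X (cj n A) where
  sq := by
    rintro _ ⟨a, ha, rfl⟩
    have h1 : n * a ^ 2 * n⁻¹ ∈ cj n (centralizer (X : Set G)) := ⟨_, h.sq a ha, rfl⟩
    rw [cj_cent hn] at h1
    have e : (MulAut.conj n).toMonoidHom a ^ 2 = n * a ^ 2 * n⁻¹ := by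
      change (n * a * n⁻¹) ^ 2 = _
      rw [pow_two, pow_two]; group
    rw [e]
    exact h1
  comm := by
    rintro _ ⟨a, ha, rfl⟩ _ ⟨b, hb, rfl⟩
    have h1 : n * (a * b * a⁻¹ * b⁻¹) * n⁻¹ ∈ cj n (centralizer (X : Set G)) := ⟨_, h.comm a ha b hb, rfl⟩
    rw [cj_cent hn] at h1
    have e : (MulAut.conj n).toMonoidHom a * (MulAut.conj n).toMonoidHom b * ((MulAut.conj n).toMonoidHom a)⁻¹ *
        ((MulAut.conj n).toMonoidHom b)⁻¹ = n * (a * b * a⁻¹ * b⁻¹) * n⁻¹ := by
      change n * a * n⁻¹ * (n * b * n⁻¹) * (n * a * n⁻¹)⁻¹ * (n * b * n⁻¹)⁻¹ = _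
      group
    rw [e]
    exact h1

theorem card_cent_cj (hn : n ∈ normalizer (X : Set G)) :
    Nat.card ↥(X ⊓ centralizer (cj n A : Set G)) = Nat.card ↥(X ⊓ centralizer (A : Set G)) := by
  have e : X ⊓ centralizer (cj n A : Set G) = cj n (X ⊓ centralizer (A : Set G)) := by
    rw [cj_inf, cj_centralizer, cj_eq_of_mem_normalizer hn]
  rw [e, card_cj]

theorem card_inf_cj (hn : n ∈ normalizer (X : Set G)) :
    Nat.card ↥(cj n A ⊓ centralizer (X : Set G)) = Nat.card ↥(A ⊓ centralizer (X : Set G)) := by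
  have e : cj n A ⊓ centralizer (X : Set G) = cj n (A ⊓ centralizer (X : Set G)) := by
    rw [cj_inf, cj_cent hn]
  rw [e, card_cj]

end fam

variable [Finite G] {S : Sylow 2 G} {K X : Subgroup G}

/-- `C_S(X) = K` -/
theorem cs (h : TopLev S K X) : (S : Subgroup G) ⊓ centralizer (X : Set G) ≤ K := by
  refine h.max _ (h.wc_of (le_inf h.le_S h.centX) inf_le_left fun g hg hgS => ?_)
    (inf_le_right.trans (centralizer_le h.VX))
  refine le_inf hgS ?_
  rw [cj_inf, cj_centralizer, cj_eq_of_mem_normalizer (h.Xn hg)]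
  exact inf_le_right

/-- **#27445 (1).** -/
theorem exists_act (h : TopLev S K X)
    (no : NoOverM (zl (S : Subgroup G) (YS (S : Subgroup G))) (S : Subgroup G)) :
    NoOverM X (S : Subgroup G) ∧ ∃ A ≤ (S : Subgroup G), ElemM X A ∧
      ¬ A ≤ centralizer (zl (S : Subgroup G) (YS (S : Subgroup G)) : Set G) ∧
      A ⊓ centralizer (zl (S : Subgroup G) (YS (S : Subgroup G)) : Set G) ≤ centralizer (X : Set G) ∧
      X ≤ zl (S : Subgroup G) (YS (S : Subgroup G)) ⊔ (X ⊓ centralizer (A : Set G)) ∧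
      Nat.card A * Nat.card ↥(zl (S : Subgroup G) (YS (S : Subgroup G)) ⊓ centralizer (A : Set G)) =
        Nat.card (zl (S : Subgroup G) (YS (S : Subgroup G))) *
          Nat.card ↥(A ⊓ centralizer (zl (S : Subgroup G) (YS (S : Subgroup G)) : Set G)) ∧
      ∀ A' ≤ A, ¬ A' ≤ centralizer (zl (S : Subgroup G) (YS (S : Subgroup G)) : Set G) →
        Nat.card A' * Nat.card ↥(zl (S : Subgroup G) (YS (S : Subgroup G)) ⊓ centralizer (A' : Set G)) =
          Nat.card (zl (S : Subgroup G) (YS (S : Subgroup G))) *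
            Nat.card ↥(A' ⊓ centralizer (zl (S : Subgroup G) (YS (S : Subgroup G)) : Set G)) →
        A ≤ A' ⊔ (A ⊓ centralizer (zl (S : Subgroup G) (YS (S : Subgroup G)) : Set G)) := by
  classical
  set V := zl (S : Subgroup G) (YS (S : Subgroup G)) with hV
  have hVX : V ≤ X := h.VX
  let a : Subgroup G → ℕ := fun A => (centralizer (X : Set G)).relIndex A
  let f : Subgroup G → ℕ := fun A => a A * Nat.card ↥(X ⊓ centralizer (A : Set G))
  have ha : ∀ A : Subgroup G, a A * Nat.card ↥(A ⊓ centralizer (X : Set G)) = Nat.card A := fun A => ri _ A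
  have hapos : ∀ A, 0 < a A := fun A => by
    refine Nat.pos_of_ne_zero fun h0 => ?_
    have := ha A
    rw [h0, zero_mul] at this
    exact Nat.card_pos.ne this
  have hf : ∀ A : Subgroup G, Nat.card A * Nat.card ↥(X ⊓ centralizer (A : Set G)) =
      f A * Nat.card ↥(A ⊓ centralizer (X : Set G)) := fun A => by
    change _ = a A * _ * _
    rw [← ha A]
    ring
  -- trivial action
  have hf1 : ∀ A, A ≤ centralizer (X : Set G) → f A = Nat.card X := by
    intro A hA
    have h1 : X ⊓ centralizer (A : Set G) = X := inf_eq_left.2 (NO3b.EZero.cent_symm hA)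
    have h2 := hf A
    rw [h1, inf_eq_left.2 hA, mul_comm] at h2
    exact (Nat.eq_of_mul_eq_mul_right Nat.card_pos h2).symm
  -- the maximum
  obtain ⟨A₁, ⟨hA₁, hA₁e⟩, hmax⟩ := Set.exists_max_image {A : Subgroup G | A ≤ (S : Subgroup G) ∧ ElemM X A}
    f (Set.toFinite _) ⟨⊥, bot_le, fun a ha => by rw [mem_bot.1 ha]; simp, fun a ha b hb => by
      rw [mem_bot.1 ha, mem_bot.1 hb]; simp⟩
  -- some best offender
  obtain ⟨A₀, hA₀, hA₀e, hA₀n, hA₀f⟩ : ∃ A₀ ≤ (S : Subgroup G), ElemM X A₀ ∧ ¬ A₀ ≤ centralizer (X : Set G) ∧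
      Nat.card X ≤ f A₀ := by
    by_contra hcon
    push Not at hcon
    refine h.mv (sup_le (inf_le_right.trans (centralizer_le hVX)) (sSup_le fun A hA => ?_))
    by_contra hAV
    have hAX : ¬ A ≤ centralizer (X : Set G) := fun h1 => hAV (h1.trans (centralizer_le hVX))
    have h1 := hcon A hA.1 hA.2.toElemM hAX
    have h2 := hA.2.max (A ⊓ centralizer (X : Set G)) inf_le_left le_rfl
    have h3 : X ⊓ centralizer ((A ⊓ centralizer (X : Set G) : Subgroup G) : Set G) = X :=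
      inf_eq_left.2 (NO3b.EZero.cent_symm inf_le_right)
    rw [h3, hf A, mul_comm] at h2
    exact absurd (Nat.le_of_mul_le_mul_right h2 Nat.card_pos) (not_le.2 h1)
  obtain ⟨A₂, hA₂, hA₂e, hA₂n, hA₂f⟩ : ∃ A ≤ (S : Subgroup G), ElemM X A ∧ ¬ A ≤ centralizer (X : Set G) ∧
      f A = f A₁ := by
    by_cases h1 : A₁ ≤ centralizer (X : Set G)
    · refine ⟨A₀, hA₀, hA₀e, hA₀n, le_antisymm (hmax A₀ ⟨hA₀, hA₀e⟩) ?_⟩
      rw [hf1 A₁ h1]
      exact hA₀f
    · exact ⟨A₁, hA₁, hA₁e, h1, rfl⟩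
  obtain ⟨A₃, ⟨hA₃, hA₃e, hA₃n, hA₃f⟩, hmin⟩ := Set.exists_min_image
    {A : Subgroup G | A ≤ (S : Subgroup G) ∧ ElemM X A ∧ ¬ A ≤ centralizer (X : Set G) ∧ f A = f A₁}
    a (Set.toFinite _) ⟨A₂, hA₂, hA₂e, hA₂n, hA₂f⟩
  -- the family
  obtain ⟨B, ⟨-, hBe, hBn, hBf, hBa⟩, hBS, hBV⟩ := h.prinS
    {A : Subgroup G | True ∧ ElemM X A ∧ ¬ A ≤ centralizer (X : Set G) ∧
      Nat.card A * Nat.card ↥(X ⊓ centralizer (A : Set G)) = f A₁ * Nat.card ↥(A ⊓ centralizer (X : Set G)) ∧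
      Nat.card A = a A₃ * Nat.card ↥(A ⊓ centralizer (X : Set G))}
    (by
      rintro A ⟨-, h1, h2, h3, h4⟩ m hm
      have hmX := h.Xn hm
      refine ⟨trivial, elemM_cj h1 hmX, fun h5 => h2 ?_, ?_, ?_⟩
      · have h6 : cj m A ≤ cj m (centralizer (X : Set G)) := by rw [cj_cent hmX]; exact h5
        have h7 := cj_mono m⁻¹ h6
        rwa [cj_inv_cj, cj_inv_cj] at h7
      · rw [card_cj, card_cent_cj hmX, card_inf_cj hmX]
        exact h3
      · rw [card_cj, card_inf_cj hmX]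
        exact h4)
    ⟨A₃, ⟨trivial, hA₃e, hA₃n, by rw [← hA₃f]; exact hf A₃, (ha A₃).symm⟩, hA₃, hA₃n⟩
  have hBf' : f B = f A₁ := Nat.eq_of_mul_eq_mul_right Nat.card_pos ((hf B).symm.trans hBf)
  have hBa' : a B = a A₃ := Nat.eq_of_mul_eq_mul_right Nat.card_pos ((ha B).trans hBa)
  set B₁ : Subgroup G := B ⊓ centralizer (V : Set G) with hB₁
  have hB₁S : B₁ ≤ (S : Subgroup G) := inf_le_left.trans hBS
  have hB₁e : ElemM X B₁ := ElemM.mono hBe inf_le_left
  have hB₁X : B₁ ⊓ centralizer (X : Set G) = B ⊓ centralizer (X : Set G) := by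
    refine le_antisymm (inf_le_inf_right _ inf_le_left) (le_inf (le_inf inf_le_left ?_) inf_le_right)
    exact inf_le_right.trans (centralizer_le hVX)
  have hVB : V ⊓ (X ⊓ centralizer (B : Set G)) = V ⊓ centralizer (B : Set G) := by
    rw [← inf_assoc, inf_eq_left.2 hVX]
  have i1 : Nat.card V * Nat.card ↥(X ⊓ centralizer (B : Set G)) ≤
      Nat.card ↥(X ⊓ centralizer (B₁ : Set G)) * Nat.card ↥(V ⊓ centralizer (B : Set G)) := by
    rw [← hVB]
    refine card_mul_le (le_inf hVX (NO3b.EZero.cent_symm inf_le_right)) (inf_le_inf_left _ (centralizer_le ?_))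
    exact_mod_cast (inf_le_left : B₁ ≤ B)
  have i2 : Nat.card B * Nat.card ↥(V ⊓ centralizer (B : Set G)) ≤ Nat.card V * Nat.card B₁ :=
    no B hBS ⟨fun x hx => centralizer_le hVX (hBe.sq x hx), fun x hx y hy => centralizer_le hVX (hBe.comm x hx y hy)⟩
  have i3 : f B₁ ≤ f B := by rw [hBf']; exact hmax B₁ ⟨hB₁S, hB₁e⟩
  have hc0 : 0 < Nat.card ↥(B ⊓ centralizer (X : Set G)) := Nat.card_pos
  have e1 := ha B
  have e2 := ha B₁
  rw [hB₁X] at e2
  -- `a(B) |C_V(B)| ≤ |V| a(B₁)`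
  have i4 : a B * Nat.card ↥(V ⊓ centralizer (B : Set G)) ≤ Nat.card V * a B₁ := by
    rw [← e1, ← e2] at i2
    refine Nat.le_of_mul_le_mul_right ?_ hc0
    calc a B * Nat.card ↥(V ⊓ centralizer (B : Set G)) * Nat.card ↥(B ⊓ centralizer (X : Set G))
        = a B * Nat.card ↥(B ⊓ centralizer (X : Set G)) * Nat.card ↥(V ⊓ centralizer (B : Set G)) := by ring
      _ ≤ Nat.card V * (a B₁ * Nat.card ↥(B ⊓ centralizer (X : Set G))) := i2
      _ = Nat.card V * a B₁ * Nat.card ↥(B ⊓ centralizer (X : Set G)) := by ring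
  have hcV : 0 < Nat.card ↥(V ⊓ centralizer (B : Set G)) := Nat.card_pos
  have hcX : 0 < Nat.card ↥(X ⊓ centralizer (B : Set G)) := Nat.card_pos
  have c1 : a B * Nat.card ↥(X ⊓ centralizer (B : Set G)) * Nat.card ↥(V ⊓ centralizer (B : Set G)) ≤
      a B₁ * (Nat.card V * Nat.card ↥(X ⊓ centralizer (B : Set G))) := by
    calc a B * Nat.card ↥(X ⊓ centralizer (B : Set G)) * Nat.card ↥(V ⊓ centralizer (B : Set G))
        = a B * Nat.card ↥(V ⊓ centralizer (B : Set G)) * Nat.card ↥(X ⊓ centralizer (B : Set G)) := by ring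
      _ ≤ Nat.card V * a B₁ * Nat.card ↥(X ⊓ centralizer (B : Set G)) := Nat.mul_le_mul_right _ i4
      _ = a B₁ * (Nat.card V * Nat.card ↥(X ⊓ centralizer (B : Set G))) := by ring
  have c2 : a B₁ * (Nat.card V * Nat.card ↥(X ⊓ centralizer (B : Set G))) ≤
      f B₁ * Nat.card ↥(V ⊓ centralizer (B : Set G)) := by
    calc a B₁ * (Nat.card V * Nat.card ↥(X ⊓ centralizer (B : Set G)))
        ≤ a B₁ * (Nat.card ↥(X ⊓ centralizer (B₁ : Set G)) * Nat.card ↥(V ⊓ centralizer (B : Set G))) :=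
          Nat.mul_le_mul_left _ i1
      _ = f B₁ * Nat.card ↥(V ⊓ centralizer (B : Set G)) := by rw [← mul_assoc]
  have c3 : f B₁ * Nat.card ↥(V ⊓ centralizer (B : Set G)) ≤
      a B * Nat.card ↥(X ⊓ centralizer (B : Set G)) * Nat.card ↥(V ⊓ centralizer (B : Set G)) :=
    Nat.mul_le_mul_right _ i3
  -- the equalities
  have q1 : f B₁ = f B := by
    refine le_antisymm i3 (Nat.le_of_mul_le_mul_right (c1.trans c2) hcV)
  have q2 : a B * Nat.card ↥(V ⊓ centralizer (B : Set G)) = Nat.card V * a B₁ := by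
    refine le_antisymm i4 ?_
    refine Nat.le_of_mul_le_mul_right ?_ hcX
    calc Nat.card V * a B₁ * Nat.card ↥(X ⊓ centralizer (B : Set G))
        = a B₁ * (Nat.card V * Nat.card ↥(X ⊓ centralizer (B : Set G))) := by ring
      _ ≤ a B * Nat.card ↥(X ⊓ centralizer (B : Set G)) * Nat.card ↥(V ⊓ centralizer (B : Set G)) := c2.trans c3
      _ = a B * Nat.card ↥(V ⊓ centralizer (B : Set G)) * Nat.card ↥(X ⊓ centralizer (B : Set G)) := by ring
  have q3 : Nat.card ↥(X ⊓ centralizer (B₁ : Set G)) * Nat.card ↥(V ⊓ centralizer (B : Set G)) ≤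
      Nat.card V * Nat.card ↥(X ⊓ centralizer (B : Set G)) := by
    refine Nat.le_of_mul_le_mul_left ?_ (hapos B₁)
    calc a B₁ * (Nat.card ↥(X ⊓ centralizer (B₁ : Set G)) * Nat.card ↥(V ⊓ centralizer (B : Set G)))
        = f B₁ * Nat.card ↥(V ⊓ centralizer (B : Set G)) := by rw [← mul_assoc]
      _ ≤ _ := c3
      _ ≤ _ := c1
  -- `B₁` centralises `X`
  have hB₁c : B₁ ≤ centralizer (X : Set G) := by
    by_contra hcon
    have h1 : a B ≤ a B₁ := by rw [hBa']; exact hmin B₁ ⟨hB₁S, hB₁e, hcon, q1.trans hBf'⟩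
    have h2 : Nat.card ↥(V ⊓ centralizer (B : Set G)) < Nat.card V := by
      refine lt_of_le_of_ne (Subgroup.card_le_of_le inf_le_left) fun h3 => hBV ?_
      have h4 : V ⊓ centralizer (B : Set G) = V := Subgroup.eq_of_le_of_card_ge inf_le_left h3.ge
      exact NO3b.EZero.cent_symm (inf_eq_left.1 h4)
    have h3 : a B * Nat.card ↥(V ⊓ centralizer (B : Set G)) < Nat.card V * a B₁ := by
      calc a B * Nat.card ↥(V ⊓ centralizer (B : Set G)) ≤ a B₁ * Nat.card ↥(V ⊓ centralizer (B : Set G)) :=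
            Nat.mul_le_mul_right _ h1
        _ < a B₁ * Nat.card V := Nat.mul_lt_mul_of_pos_left h2 (hapos B₁)
        _ = Nat.card V * a B₁ := mul_comm _ _
    exact absurd q2 h3.ne
  have hXB₁ : X ⊓ centralizer (B₁ : Set G) = X := inf_eq_left.2 (NO3b.EZero.cent_symm hB₁c)
  have hfX : f A₁ = Nat.card X := by rw [← hBf', ← q1, hf1 B₁ hB₁c]
  have hB₁eq : B ⊓ centralizer (X : Set G) = B₁ := by
    rw [← hB₁X]; exact inf_eq_left.2 hB₁c
  rw [hXB₁] at q3
  refine ⟨fun A hA hAe => ?_, B, hBS, hBe, hBV, hB₁c, ?_, ?_, fun A' hA' hA'V hA'x => ?_⟩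
  · rw [hf A, ← hfX]
    exact Nat.mul_le_mul_right _ (hmax A ⟨hA, hAe⟩)
  · refine le_sup_of_card hVX inf_le_left ?_
    rw [hVB]
    exact q3
  · have h1 : Nat.card B = a B * Nat.card B₁ := by rw [← e1, hB₁eq]
    have h2 : a B₁ = 1 := by
      have := e2
      rw [hB₁eq] at this
      exact Nat.eq_of_mul_eq_mul_right Nat.card_pos (by rw [this, one_mul])
    rw [h2, mul_one] at q2
    rw [h1]
    calc a B * Nat.card B₁ * Nat.card ↥(V ⊓ centralizer (B : Set G))
        = a B * Nat.card ↥(V ⊓ centralizer (B : Set G)) * Nat.card B₁ := by ring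
      _ = Nat.card V * Nat.card B₁ := by rw [q2]
  · have hA'S : A' ≤ (S : Subgroup G) := hA'.trans hBS
    have hA'e : ElemM X A' := ElemM.mono hBe hA'
    have hA'c : A' ⊓ centralizer (V : Set G) ≤ centralizer (X : Set G) := (inf_le_inf_right _ hA').trans hB₁c
    have hA'i : A' ⊓ centralizer (X : Set G) = A' ⊓ centralizer (V : Set G) :=
      le_antisymm (inf_le_inf_left _ (centralizer_le hVX)) (le_inf inf_le_left hA'c)
    have g1 := ha A'
    rw [hA'i] at g1
    -- `a(A') |C_V(A')| = |V|`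
    have g2 : a A' * Nat.card ↥(V ⊓ centralizer (A' : Set G)) = Nat.card V := by
      refine Nat.eq_of_mul_eq_mul_right (Nat.card_pos (α := ↥(A' ⊓ centralizer (V : Set G)))) ?_
      rw [← hA'x, ← g1]
      ring
    have g3 : Nat.card ↥(V ⊓ centralizer (A' : Set G)) * Nat.card ↥(X ⊓ centralizer (B : Set G)) ≤
        Nat.card ↥(X ⊓ centralizer (A' : Set G)) * Nat.card ↥(V ⊓ centralizer (B : Set G)) := by
      have hcc : centralizer (B : Set G) ≤ centralizer (A' : Set G) := centralizer_le (by exact_mod_cast hA')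
      have e : (V ⊓ centralizer (A' : Set G)) ⊓ (X ⊓ centralizer (B : Set G)) = V ⊓ centralizer (B : Set G) := by
        apply le_antisymm
        · exact le_inf (inf_le_left.trans inf_le_left) (inf_le_right.trans inf_le_right)
        · exact le_inf (inf_le_inf_left _ hcc) (inf_le_inf_right _ hVX)
      rw [← e]
      exact card_mul_le (inf_le_inf_right _ hVX) (inf_le_inf_left _ hcc)
    have g4 : Nat.card X ≤ f A' := by
      refine Nat.le_of_mul_le_mul_right ?_ hcV
      calc Nat.card X * Nat.card ↥(V ⊓ centralizer (B : Set G))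
          ≤ Nat.card V * Nat.card ↥(X ⊓ centralizer (B : Set G)) := q3
        _ = a A' * (Nat.card ↥(V ⊓ centralizer (A' : Set G)) * Nat.card ↥(X ⊓ centralizer (B : Set G))) := by
            rw [← g2]; ring
        _ ≤ a A' * (Nat.card ↥(X ⊓ centralizer (A' : Set G)) * Nat.card ↥(V ⊓ centralizer (B : Set G))) :=
            Nat.mul_le_mul_left _ g3
        _ = f A' * Nat.card ↥(V ⊓ centralizer (B : Set G)) := by rw [← mul_assoc]
    have g5 : f A' = f A₁ := le_antisymm (hmax A' ⟨hA'S, hA'e⟩) (hfX.trans_le g4)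
    have g6 : a B ≤ a A' := by
      rw [hBa']
      exact hmin A' ⟨hA'S, hA'e, fun h1 => hA'V (h1.trans (centralizer_le hVX)), g5⟩
    refine le_sup_of_card hA' inf_le_left ?_
    have g7 : A' ⊓ B₁ = A' ⊓ centralizer (V : Set G) := by
      rw [hB₁, ← inf_assoc, inf_eq_left.2 hA']
    rw [g7, ← g1]
    calc Nat.card B * Nat.card ↥(A' ⊓ centralizer (V : Set G))
        = a B * Nat.card B₁ * Nat.card ↥(A' ⊓ centralizer (V : Set G)) := by rw [← e1, hB₁eq]
      _ ≤ a A' * Nat.card B₁ * Nat.card ↥(A' ⊓ centralizer (V : Set G)) := by gcongr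
      _ = a A' * Nat.card ↥(A' ⊓ centralizer (V : Set G)) * Nat.card B₁ := by ring

end Cfsg.Agent.Omega.NOThreeL.RLev.LevQ
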