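import Cfsg.Agent.Mrg.Omega.NOThreeL.RLev.HatLow
import Cfsg.Agent.Mrg.Omega.NOThreeL.RLev.HatMk
import Cfsg.Agent.Mrg.Omega.NOThreeL.RLev.SeedXOf
import Cfsg.Agent.Mrg.Omega.NOThreeL.RLev.TopEnd


/-!
# Box R: `Ω₁(Z(W^)) ≤ O₂(C_G(Z))` (helper492 #26533 with `V = Ω₁(Z(W^))`, helper678 #27071 (LOW))

`W` = the largest weakly closed subgroup of `S` in `C_S(V*)`, `M = N_G(W)`, `V = Ω₁(Z(W))`.

* `Dt S M V` : what `Hat.low` uses; `Dt.low` : `V ≤ O₂(C_G(Z))`;
* `HatW.root`, `HatW.start`, `HatW.dt` : `Dt S (N_G(W)) (Ω₁(Z(W)))`;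
* **`seedX`** : `J(S) ≤ C(V*)`: `nxtX S (Ω₁(Z(W^)))` moves `V*`; `topLev_zc`; **`seedQ : SeedQ S`**.
-/

set_option autoImplicit false
set_option linter.unusedSectionVars false

namespace Cfsg.Agent.Omega.NOThreeL.RLev.LowZc

open Subgroup Cfsg
open Cfsg.Agent.ZN hiding mem_zc le_o2 le_normalizer_o2 zl_le normalizer_le_normalizer_zc zc_le le_centralizer_zc
open Cfsg.Agent.Omega.MinPar Cfsg.Agent.Omega.Frame
open Cfsg.Agent.Omega.FrameNOFF
open Cfsg.Agent.Omega.NoFF.Basic (conj_conj mem_conj conj_le_iff conj_le_centralizer comm_symm comm_mono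
  Z_le_V V_le Sys)
open Cfsg.Agent.Omega.NOne.Flat (EE WW Hyp Bad)
open Cfsg.Agent.Omega.NOThreeL.Basic (CaseA)
open Cfsg.Agent.Omega.NOThreeL.Pair (conj_eq_of_mem conj_le_normalizer)
open Cfsg.Agent.Omega.Node.NO3L
open Cfsg.Agent.ZN.ChoiceBase (cj isPGroup_cj)
open Cfsg.Agent.Omega.NOThreeL.RLow (SitG good_of_ne card_zc sit_false parts)
open Cfsg.Agent.Omega.NOThreeL.RLev.Hat (AC NX St)
open Cfsg.Agent.Omega.NO3b.EZero (NotFF cl)
open Cfsg.Agent.Omega.NO3b.EndX (AbsP)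
open Cfsg.Agent.Omega.ML.Final (MLK)
open Cfsg.Agent.Omega.NOThreeL.Star (YS le_YS S_le_YS)
open Cfsg.Agent.Omega.NOThreeL.RTreeF (RBF)
open Cfsg.Agent.Omega.NOThreeL.RRed (Wd)
open Cfsg.Agent.Omega.NOThreeL.RLev.SeedHat
open Cfsg.Agent.MinSimple.VModule (zc_le_zl zc_le zl_le_zc zl_le o2_isPGroup le_normalizer_o2 le_normalizer_zl
  mem_zc le_o2 o2_le le_centralizer_zc zc_sq zc_comm normalizer_le_normalizer_zc)
open scoped Pointwise

universe u

variable {G : Type u} [Group G] [Finite G] {S : Sylow 2 G} {M V : Subgroup G}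

/-- What `Hat.low` uses. -/
structure Dt (S : Sylow 2 G) (M V : Subgroup G) : Prop where
  ctx : Ctx G
  D : Data (S : Subgroup G)
  notA : ¬ CaseA (S : Subgroup G)
  SM : (S : Subgroup G) ≤ M
  MV : M ≤ normalizer (V : Set G)
  ZV : zc (S : Subgroup G) ≤ V
  LV : ∀ {Q : Subgroup G}, IsParS (S : Subgroup G) Q → zl (S : Subgroup G) Q ≤ V
  VS : V ≤ (S : Subgroup G)
  prin : ∀ FF : Set (Subgroup G), (∀ A ∈ FF, ∀ m ∈ M, cj m A ∈ FF) →
    (∃ A ∈ FF, A ≤ (S : Subgroup G) ∧ ¬ A ≤ centralizer (V : Set G)) →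
    ∃ B ∈ FF, B ≤ (S : Subgroup G) ∧ ∃ P, IsParS (S : Subgroup G) P ∧
      ¬ B ≤ centralizer (zl (S : Subgroup G) P : Set G)
  start : ¬ V ≤ o2 (CZ (S : Subgroup G)) → ∃ F, Hyp V F ∧ WW V F ≤ (S : Subgroup G)

namespace Dt

variable (h : Dt S M V)
include h

/-- PRINCIPLE' for the groups `C_W(B)` -/
theorem push {F B : Subgroup G} (s : St S M V F B) (hA : AC V F B ≤ (S : Subgroup G)) :
    ∃ F' B', St S M V F' B' ∧ AC V F' B' ≤ (S : Subgroup G) ∧ Nat.card B' = Nat.card B ∧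
      (¬ V ⊓ B ≤ F → ¬ V ⊓ B' ≤ F') ∧ (∃ m ∈ M, F' = MulAut.conj m • F ∧ B' = MulAut.conj m • B) ∧
      ∃ P, IsParS (S : Subgroup G) P ∧ ¬ AC V F' B' ≤ centralizer (zl (S : Subgroup G) P : Set G) := by
  obtain ⟨A', ⟨m, hm, rfl⟩, hS, P, hP, hmv⟩ := h.prin {A | ∃ m ∈ M, A = cj m (AC V F B)}
    (by
      rintro _ ⟨m, hm, rfl⟩ n hn
      refine ⟨n * m, mul_mem hn hm, ?_⟩
      exact ChoiceBase.cj_cj _ _ _)
    ⟨AC V F B, ⟨1, one_mem _, by
      change _ = MulAut.conj (1 : G) • AC V F B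
      rw [map_one, one_smul]⟩, hA, s.moves⟩
  have e : cj m (AC V F B) = AC V (MulAut.conj m • F) (MulAut.conj m • B) := Hat.conj_AC (h.MV hm)
  rw [e] at hS hmv
  refine ⟨MulAut.conj m • F, MulAut.conj m • B, s.conj h.MV hm, hS, ?_, ?_, ⟨m, hm, rfl, rfl⟩, P, hP, hmv⟩
  · exact Subgroup.card_map_of_injective (MulAut.conj m).injective
  · intro h1 h2
    apply h1
    have h3 := conj_le_iff (g := m⁻¹).2 h2
    rw [Subgroup.smul_inf, Hat.conj_inv_conj, Hat.conj_inv_conj, conj_eq_of_mem (h.MV (inv_mem hm))] at h3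
    exact h3

/-- **THEOREM** (#26533): `V^ ≤ O₂(C_G(Z))`. -/
theorem low (hR : ∃ R, IsParS (S : Subgroup G) R ∧ zc (S : Subgroup G) ⊓ centralizer (R : Set G) ≠ ⊥) :
    V ≤ o2 (CZ (S : Subgroup G)) := by
  by_contra hn
  have h2 : 2 < Nat.card (zc (S : Subgroup G)) := by
    obtain ⟨R, hR, hz⟩ := hR
    exact card_zc hR hz
  have hzne : zc (S : Subgroup G) ≠ ⊥ := Low.zc_ne_bot h.ctx
  have hZS : (S : Subgroup G) ≤ centralizer (zc (S : Subgroup G) : Set G) := fun s hs =>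
    mem_centralizer_iff.2 fun z hz => ((mem_zc.1 hz).2.1 s hs).symm
  -- the start
  have h0 : ∃ F, Hyp V F ∧ WW V F ≤ (S : Subgroup G) := by
    exact h.start hn
  obtain ⟨F, hF, hW⟩ := h0
  have hAF : AC V F F ≤ (S : Subgroup G) := inf_le_left.trans hW
  obtain ⟨F, B, s, hA, -, -, ⟨m, hm, rfl, rfl⟩, P, hP, hmv⟩ := h.push (st_start hF) hAF
  set F := MulAut.conj m • F with hFdef
  have hWS : WW V F ≤ (S : Subgroup G) := by
    refine le_trans (le_inf le_rfl ?_) hA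
    exact NOne.Flat.Hyp.W_le_X
  have hZF : zc (S : Subgroup G) ≤ F := by
    rw [← s.hyp.cent_VW]
    exact le_inf h.ZV (comm_symm (hWS.trans hZS))
  have hgood : zl (S : Subgroup G) P ≤ EE V F := by
    refine good_of_ne h.D h.notA s.hyp hP (h.LV hP) (g := 1) (one_mem _) ?_
    rw [map_one, one_smul, inf_eq_left.2 hZF]
    exact hzne
  have s1 := s.enlarge h.ctx.char2 h.D.noff hA (one_mem _) hP hgood
  have hUB : zl (S : Subgroup G) P ≤ F ⊔ NX (zl (S : Subgroup G) P) F := by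
    have h3 := Z_le_V (Z := zl (S : Subgroup G) P) (one_mem (centralizer (F : Set G)))
    rw [map_one, one_smul] at h3
    exact h3.trans le_sup_right
  have hne1 : ¬ V ⊓ (F ⊔ NX (zl (S : Subgroup G) P) F) ≤ F := by
    intro h3
    apply hmv
    refine Hat.AC_le_C.trans (centralizer_le ?_)
    exact (le_inf (h.LV hP) hUB).trans h3
  have hanti : ∀ {F B B' : Subgroup G}, B ≤ B' → AC V F B' ≤ AC V F B := fun hle =>
    inf_le_inf_left _ (centralizer_le hle)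
  -- a maximal state
  obtain ⟨⟨F₁, B₁⟩, ⟨t1, t2, t3⟩, hmax⟩ := Set.exists_max_image
    {q : Subgroup G × Subgroup G | St S M V q.1 q.2 ∧ AC V q.1 q.2 ≤ (S : Subgroup G) ∧ ¬ V ⊓ q.2 ≤ q.1}
    (fun q => Nat.card q.2) (Set.toFinite _)
    ⟨(F, F ⊔ NX (zl (S : Subgroup G) P) F), s1, (hanti le_sup_left).trans hA, hne1⟩
  dsimp only at t1 t2 t3 hmax
  obtain ⟨F₂, B₂, u, uA, ucard, une, -, Q, hQ, hQm⟩ := h.push t1 t2
  have une' := une t3
  -- ENLARGE gives nothing new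
  have key : ∀ R, IsParS (S : Subgroup G) R → zl (S : Subgroup G) R ≤ EE V F₂ →
      zl (S : Subgroup G) R ≤ B₂ := by
    intro R hR' hRE
    have u1 := u.enlarge h.ctx.char2 h.D.noff uA (one_mem _) hR' hRE
    have h3 := hmax (F₂, B₂ ⊔ NX (zl (S : Subgroup G) R) F₂)
      ⟨u1, (hanti le_sup_left).trans uA, fun h4 => une' ((inf_le_inf_left _ le_sup_left).trans h4)⟩
    dsimp only at h3
    rw [← ucard] at h3
    have h4 : B₂ = B₂ ⊔ NX (zl (S : Subgroup G) R) F₂ := eq_of_le_of_card_ge le_sup_left h3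
    rw [h4]
    have h5 := Z_le_V (Z := zl (S : Subgroup G) R) (one_mem (centralizer (F₂ : Set G)))
    rw [map_one, one_smul] at h5
    exact h5.trans le_sup_right
  have hbad : ¬ zl (S : Subgroup G) Q ≤ EE V F₂ := fun hE =>
    hQm (Hat.AC_le_C.trans (centralizer_le (key Q hQ hE)))
  exact sit_false parts (u.sit h.ctx h.D h.notA uA une' h.VS h.ZV (fun _ hR' => h.LV hR') key hQ hbad h2) hR

end Dt

section hat

open Cfsg.Agent.ZN.ChoiceBase
open Cfsg.Agent.Omega.NO3b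

variable {W : Subgroup G}

theorem root (h : HatW (S : Subgroup G) W) (nff : NotFF (zc W)) : Seed.Root S (zc W) (normalizer (W : Set G)) where
  le := h.S_le
  ZY := h.Z_le
  comm := by rw [h.cl_eq]; exact h.zc_comm
  sq := by rw [h.cl_eq]; exact zc_sq _
  nff := by rw [h.cl_eq]; exact nff
  cs := by rw [h.cl_eq, h.cs]

theorem QL_eq (h : HatW (S : Subgroup G) W) : Seed.QL (S : Subgroup G) (zc W) (normalizer (W : Set G)) = W := by
  rw [Seed.QL, h.cl_eq, h.cs]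

theorem WH_eq (h : HatW (S : Subgroup G) W) : Seed.WH (S : Subgroup G) (zc W) (normalizer (W : Set G)) = W := by
  rw [Seed.Root.WH_eq (by rw [QL_eq h]; exact h.wc), QL_eq h]

theorem ML_eq (h : HatW (S : Subgroup G) W) :
    Seed.ML (S : Subgroup G) (zc W) (normalizer (W : Set G)) = normalizer (W : Set G) := by
  rw [Seed.ML, WH_eq h]

theorem VL_eq (h : HatW (S : Subgroup G) W) : Seed.VL (S : Subgroup G) (zc W) (normalizer (W : Set G)) = zc W := by
  rw [Seed.VL, ML_eq h, h.cl_eq]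

theorem flatHyp (h : HatW (S : Subgroup G) W) (hc : IsCharacteristicTwoType G) (nff : NotFF (zc W)) {F : Subgroup G}
    (hF : Bad (zc W) F) (hmax : ∀ D : Subgroup G, Bad (zc W) D → F ≤ D → D = F) : Hyp (zc W) F where
  comm := h.zc_comm
  sq := zc_sq _
  syl := fun D _ hD => by
    have h1 := (root h nff).o2_cent_le (D := D) (by rw [VL_eq h]; exact hD)
    rw [ML_eq h] at h1
    exact h1.trans (normalizer_le_normalizer_zc _)
  noff := by
    intro A hN hA h2 hne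
    refine Union.card_lt (nff A (fun x => ⟨1, Subtype.ext (by simpa using h2 x x.2)⟩) hN
      (fun a ha => by rw [h2 a ha]; exact one_mem _) (fun a ha b hb => ?_) hne)
    have e : a * b = b * a := (mem_centralizer_iff.1 (hA ha) b hb).symm
    rw [e, mul_inv_cancel_right, mul_inv_cancel]
    exact one_mem _
  char2 := NOne.LemmaT.char2_centralizer hc
    ((S.isPGroup'.to_le h.wc.le).to_le (hF.le.trans (zc_le _))) hF.ne
  bad := hF
  max := hmax

theorem start (h : HatW (S : Subgroup G) W) (hG : Ctx G) (nff : NotFF (zc W))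
    (hn : ¬ zc W ≤ o2 (CZ (S : Subgroup G))) : ∃ F, Hyp (zc W) F ∧ WW (zc W) F ≤ (S : Subgroup G) := by
  have hZ : zc (S : Subgroup G) ≠ ⊥ := MinSimple.Basic.zc_ne_bot S.isPGroup' (hG.sylow_ne_bot S)
  obtain ⟨F, -, hF, hmax⟩ := NOne.Flat.exists_max (V := zc W) (F₀ := zc (S : Subgroup G)) ⟨hZ, h.Z_le, hn⟩
  have hfl := flatHyp h hG.char2 nff hF hmax
  have r := root h nff
  have hWM : WW (zc W) F ≤ normalizer (W : Set G) := by
    have h1 := r.o2_cent_le (D := F) (by rw [VL_eq h]; exact hF.le)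
    rw [ML_eq h] at h1
    exact NOne.Flat.Hyp.W_le_R.trans h1
  have hW2 : IsPGroup 2 (WW (zc W) F : Subgroup G) := (o2_isPGroup _).to_le NOne.Flat.Hyp.W_le_R
  obtain ⟨m, hm, hmW⟩ := r.exists_conj_le hW2 (by rw [ML_eq h]; exact hWM)
  rw [ML_eq h] at hm
  have hmV := normalizer_le_normalizer_zc _ hm
  refine ⟨MulAut.conj m • F, hfl.conj hmV, ?_⟩
  rw [← NOne.Flat.WW_conj hmV]
  exact hmW

theorem dt (h : HatW (S : Subgroup G) W) (hR : RBF S) (nff : NotFF (zc W)) :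
    Dt S (normalizer (W : Set G)) (zc W) where
  ctx := hR.ctx
  D := hR.data
  notA := hR.notA
  SM := h.S_le
  MV := normalizer_le_normalizer_zc _
  ZV := h.Z_le
  LV := fun hQ => (Star.zl_mono _ (le_YS hQ)).trans h.V_le
  VS := (zc_le _).trans h.wc.le
  prin := fun FF hF hex => NoOverHat.exists_act hR.ctx.char2 h.wc h.max (normalizer_le_normalizer_zc _) h.V_le
    (le_centralizer_zc _) FF hF hex
  start := start h hR.ctx nff

/-- **`Ω₁(Z(W^))` is FF.** -/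
theorem ff (ml : MLK.{u, u}) (ha : AbsP.{u, u}) (h : HatW (S : Subgroup G) W) (hR : RBF S) : ¬ NotFF (zc W) := fun nff =>
  h.false_of_low hR.ctx hR.full ml ha nff ((dt h hR nff).low hR.ex)

/-- **`nxtX S (Ω₁(Z(W^)))` moves `V*`.** -/
theorem seedX (ml : MLK.{u, u}) (ha : AbsP.{u, u}) (h : RBF S)
    (hj : jj (S : Subgroup G) ≤ centralizer (zl (S : Subgroup G) (YS (S : Subgroup G)) : Set G)) :
    ¬ nxtX (S : Subgroup G) (zc (NO3b.Wc.WH (S : Subgroup G) (YS (S : Subgroup G)))) ≤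
      centralizer (zl (S : Subgroup G) (YS (S : Subgroup G)) : Set G) := by
  intro hn
  have H := hatW_WH hj
  have h1 := H.max _ (nxtX_wc H.wc le_rfl (normalizer_le_normalizer_zc _)) hn
  exact ff ml ha H h (notFF_of_nxt (H.S_le.trans (normalizer_le_normalizer_zc _))
    (h1.trans (MinSimple.VModule.le_centralizer_zc _)))

/-- **The level `(W^, Ω₁(Z(W^)))`.** -/
theorem topLev_zc (ml : MLK.{u, u}) (ha : AbsP.{u, u}) (h : RBF S)
    (hj : jj (S : Subgroup G) ≤ centralizer (zl (S : Subgroup G) (YS (S : Subgroup G)) : Set G)) :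
    TopLev S (NO3b.Wc.WH (S : Subgroup G) (YS (S : Subgroup G)))
      (zc (NO3b.Wc.WH (S : Subgroup G) (YS (S : Subgroup G)))) :=
  topLev_of hj (hatW_WH hj).V_le le_rfl (normalizer_le_normalizer_zc _) (seedX ml ha h hj)

/-- **`SeedQ S`** -/
theorem seedQ (ml : MLK.{u, u}) (ha : AbsP.{u, u}) (h : RBF S)
    (hj : jj (S : Subgroup G) ≤ centralizer (Wd (S : Subgroup G) : Set G)) : SeedQ S := fun hQ => by
  have h1 := seedX ml ha h hj
  rwa [hQ] at h1

/-- **The top level is `(Q, V*)`**, from `VX S`. -/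
theorem top_of_vx (ml : MLK.{u, u}) (ha : AbsP.{u, u}) (h : RBF S)
    (hj : jj (S : Subgroup G) ≤ centralizer (Wd (S : Subgroup G) : Set G)) (vx : VX S) : Top S :=
  top_of ml ha h hj vx (seedQ ml ha h hj)

end hat

end Cfsg.Agent.Omega.NOThreeL.RLev.LowZc
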