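import Cfsg.Agent.Mrg.Omega.NOThreeL.RLev.Chain
import Cfsg.Agent.Mrg.Omega.NO3b.Seed.LocFam
import Cfsg.Agent.Mrg.Omega.NO3b.BasePt.Final


/-!
# Box R of NO-3L: `Ω₁(Z(W^))` is FF, if it lies in `O₂(C_G(Z))` (helper678, #27071)

`V* = ⟨Z^Y⟩`, `Y = ⟨P*(S)⟩`, `J(S) ≤ C_G(V*)`; `W` the largest weakly closed subgroup of `S` in `C_S(V*)`,
`M = N_G(W)`.

* `HatW S W` : `W` is the largest weakly closed subgroup of `S` in `C_S(V*)` and `J(S)` centralises `V*`;
* `HatW.jj_le`, `HatW.par_le`, `HatW.V_le`, `HatW.cs`, `HatW.o2_eq` : `O₂(N_G(W)) = W`;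
* `HatW.seed`, `HatW.stage`, `HatW.core` : the seed `Ω₁(Z(W))` over `M`;
* **`HatW.false_of_low`** : `Ω₁(Z(W)) ≤ O₂(C_G(Z))` and `Ω₁(Z(W))` not FF: False.
-/

set_option autoImplicit false
set_option linter.unusedSectionVars false

namespace Cfsg.Agent.Omega.NOThreeL.RLev.SeedHat

open Subgroup Cfsg Cfsg.Agent.Omega.MinPar Cfsg.Agent.Omega.Frame Cfsg.Agent.Omega.FrameNOFF
open Cfsg.Agent.ZN (o2 zc zl jj)
open Cfsg.Agent.ZN.ChoiceBase hiding mem_zc
open Cfsg.Agent.Omega.Node.NO3L Cfsg.Agent.Omega.NOThreeL.Basic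
open Cfsg.Agent.Omega.NO3b
open Cfsg.Agent.Omega.NO3b.EZero (NotFF le_normalizer_cl cl le_cl)
open Cfsg.Agent.Omega.NO3b.Wc (WC)
open Cfsg.Agent.Omega.NO3b.Exit (wc_S_le)
open Cfsg.Agent.Omega.NO3b.BasePt (BaseFlag baseFlag_of_fam)
open Cfsg.Agent.Omega.NOThreeL.Star (YS le_YS S_le_YS)
open Cfsg.Agent.Omega.ML.Final (MLK)
open Cfsg.Agent.Omega.NO3b.EndX (AbsP)
open Cfsg.Agent.MinSimple.VModule (zc_le le_normalizer_o2 le_normalizer_zl zc_le_zl zl_le o2_isPGroup
  o2_le le_o2 zc_sq mem_zc normalizer_le_normalizer_zc)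

universe u

variable {G : Type u} [Group G]

/-- `W` is the largest weakly closed subgroup of `S` in `C_S(V*)`; `J(S)` centralises `V*`. -/
structure HatW (S W : Subgroup G) : Prop where
  wc : WC S W
  cent : W ≤ centralizer (zl S (YS S) : Set G)
  max : ∀ K : Subgroup G, WC S K → K ≤ centralizer (zl S (YS S) : Set G) → K ≤ W
  jc : jj S ≤ centralizer (zl S (YS S) : Set G)

/-- It exists. -/
theorem exists_hatW (S : Subgroup G) (h : jj S ≤ centralizer (zl S (YS S) : Set G)) :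
    HatW S (sSup {K | WC S K ∧ K ≤ centralizer (zl S (YS S) : Set G)}) where
  wc := WC.sSup fun _ hb => hb.1
  cent := sSup_le fun _ hb => hb.2
  max := fun _ h1 h2 => le_sSup ⟨h1, h2⟩
  jc := h

namespace HatW

variable [Finite G] {S : Sylow 2 G} {W : Subgroup G} (h : HatW (S : Subgroup G) W)
include h

theorem jj_le : jj (S : Subgroup G) ≤ W := by
  refine h.max _ ⟨ZN.ChoiceBase.jj_le _, fun g hg => ?_⟩ h.jc
  have h1 : jj (S : Subgroup G) ≤ cj g⁻¹ (S : Subgroup G) := cj_le_iff.1 hg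
  have h2 := MinSimple.EmptyTI.jj_eq S (isPGroup_cj g⁻¹ S.isPGroup') h1
  rw [jj_cj] at h2
  have h3 := congrArg (cj g) h2
  rw [cj_cj_inv] at h3
  exact h3.symm

theorem S_le : (S : Subgroup G) ≤ normalizer (W : Set G) := wc_S_le h.wc

theorem two : IsPGroup 2 W := S.isPGroup'.to_le h.wc.le

theorem Z_le : zc (S : Subgroup G) ≤ zc W := by
  intro z hz
  have hz' := mem_zc.1 hz
  have h1 : z ∈ jj (S : Subgroup G) := mem_jj_of_comm hz'.1 hz'.2.2 fun y hy => hz'.2.1 y (ZN.ChoiceBase.jj_le _ hy)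
  exact mem_zc.2 ⟨h.jj_le h1, fun y hy => hz'.2.1 y (h.wc.le hy), hz'.2.2⟩

/-- `P*(S) ⊆ N_G(W)` -/
theorem par_le {P : Subgroup G} (hP : IsParS (S : Subgroup G) P) : P ≤ normalizer (W : Set G) := by
  have h1 : W ≤ o2 P := by
    have h2 : W ≤ (S : Subgroup G) ⊓ centralizer (zl (S : Subgroup G) P : Set G) :=
      le_inf h.wc.le (h.cent.trans (centralizer_le (Star.zl_mono _ (le_YS hP))))
    refine h2.trans ?_
    have hn : P ≤ normalizer ((P ⊓ centralizer (zl (S : Subgroup G) P : Set G) : Subgroup G) : Set G) := by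
      intro p hp
      rw [mem_normalizer_iff_cj, cj_inf, cj_centralizer, cj_eq_of_mem_normalizer (le_normalizer hp),
        cj_eq_of_mem_normalizer (le_normalizer_zl _ _ hp)]
    rcases hP.toIsPar.sup_eq_or_inf_le S inf_le_left hn with h4 | h4
    · exfalso
      apply hP.not_zc
      rw [← h4]
      refine sup_le ?_ ?_
      · exact inf_le_right.trans ((centralizer_le (zc_le_zl _ _)).trans (centralizer_le_normalizer _))
      · exact (le_CZ S).trans (centralizer_le_normalizer _)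
    · exact le_trans (le_inf inf_le_left (le_inf (inf_le_left.trans hP.le) inf_le_right)) h4
  intro p hp
  rw [mem_normalizer_iff_cj]
  refine h.wc.eq p ?_
  have h3 := cj_mono p h1
  rw [cj_eq_of_mem_normalizer (le_normalizer_o2 P hp)] at h3
  exact h3.trans (hP.isLoc.o2_le S)

theorem YS_le : YS (S : Subgroup G) ≤ normalizer (W : Set G) := sSup_le fun _ hP => h.par_le hP

/-- `V* ≤ Ω₁(Z(W))` -/
theorem V_le : zl (S : Subgroup G) (YS (S : Subgroup G)) ≤ zc W :=
  zl_le h.Z_le (h.YS_le.trans (normalizer_le_normalizer_zc _))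

/-- a centraliser in `S` of a characteristic part is weakly closed -/
theorem wc_cent {X : Subgroup G} (hX : normalizer (W : Set G) ≤ normalizer (X : Set G))
    (hWX : W ≤ centralizer (X : Set G)) : WC (S : Subgroup G) ((S : Subgroup G) ⊓ centralizer (X : Set G)) := by
  refine ⟨inf_le_left, fun g hg => ?_⟩
  have h1 : cj g W ≤ (S : Subgroup G) := (cj_mono g (le_inf h.wc.le hWX)).trans hg
  have h2 : g ∈ normalizer (X : Set G) := hX (mem_normalizer_iff_cj.2 (h.wc.eq g h1))
  have h3 : cj g ((S : Subgroup G) ⊓ centralizer (X : Set G)) ≤ (S : Subgroup G) ⊓ centralizer (X : Set G) := by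
    refine le_inf hg ?_
    refine (cj_mono g inf_le_right).trans ?_
    rw [cj_centralizer, cj_eq_of_mem_normalizer h2]
  exact eq_of_le_of_card_ge h3 (by rw [card_cj])

/-- `C_S(Ω₁(Z(W))) = W` -/
theorem cs : (S : Subgroup G) ⊓ centralizer (zc W : Set G) = W := by
  have hc : W ≤ centralizer (zc W : Set G) := MinSimple.VModule.le_centralizer_zc _
  refine le_antisymm ?_ (le_inf h.wc.le hc)
  exact h.max _ (h.wc_cent (normalizer_le_normalizer_zc _) hc) (inf_le_right.trans (centralizer_le h.V_le))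

variable (hG : Ctx G)
include hG

theorem isLoc : IsLoc (S : Subgroup G) (normalizer (W : Set G)) := by
  refine ⟨h.S_le, fun h0 => ?_⟩
  have h1 : W ≤ o2 (normalizer (W : Set G)) := le_o2 le_normalizer h.two (le_of_eq (by simp))
  have h2 : zc (S : Subgroup G) ≠ ⊥ := MinSimple.Basic.zc_ne_bot S.isPGroup' (hG.sylow_ne_bot S)
  apply h2
  rw [eq_bot_iff, ← h0]
  exact (h.Z_le.trans (zc_le _)).trans h1

/-- **`O₂(N_G(W)) = W`** -/
theorem o2_eq : o2 (normalizer (W : Set G)) = W := by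
  have hM := h.isLoc hG
  have h1 : W ≤ o2 (normalizer (W : Set G)) := le_o2 le_normalizer h.two (le_of_eq (by simp))
  refine le_antisymm ?_ h1
  have hO : o2 (normalizer (W : Set G)) ≤ (S : Subgroup G) := hM.o2_le S
  have hn : normalizer (W : Set G) ≤ normalizer (zc (o2 (normalizer (W : Set G))) : Set G) :=
    (le_normalizer_o2 _).trans (normalizer_le_normalizer_zc _)
  have hc : o2 (normalizer (W : Set G)) ≤ centralizer (zc (o2 (normalizer (W : Set G))) : Set G) :=
    MinSimple.VModule.le_centralizer_zc _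
  have hV : zl (S : Subgroup G) (YS (S : Subgroup G)) ≤ zc (o2 (normalizer (W : Set G))) :=
    (Star.zl_mono _ h.YS_le).trans (hM.zl_le S hG.char2)
  exact (le_inf hO hc).trans (h.max _ (h.wc_cent hn (h1.trans hc)) (inf_le_right.trans (centralizer_le hV)))

/-- the seed -/
theorem seed : Seed.Seed S (zc W) (normalizer (W : Set G)) := by
  have h1 := Seed.seed_of hG.char2 (h.isLoc hG)
  rwa [h.o2_eq hG] at h1

omit hG in
theorem cl_eq : cl (zc W) (normalizer (W : Set G)) = zc W := Seed.cl_eq (normalizer_le_normalizer_zc _)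

omit hG in
theorem zc_comm : zc W ≤ centralizer (zc W : Set G) :=
  fun _ hx => MinSimple.VModule.le_centralizer_zc _ (zc_le _ hx)

omit hG in
theorem stage (nff : NotFF (zc W)) (low : zc W ≤ o2 (CZ (S : Subgroup G))) :
    Seed.Stage S (zc W) (normalizer (W : Set G)) where
  le := h.S_le
  ZY := h.Z_le
  comm := by rw [h.cl_eq]; exact h.zc_comm
  sq := by rw [h.cl_eq]; exact zc_sq _
  nff := by rw [h.cl_eq]; exact nff
  cs := by rw [h.cl_eq, h.cs]
  low := by rw [h.cl_eq]; exact low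

omit hG in
/-- Weakly closed subgroups of `S` in all `O₂(P')` centralise `Ω₁(Z(W))`. -/
theorem core : Seed.Core (S : Subgroup G) (zc W) := by
  intro K hK hK2
  have h1 : YS (S : Subgroup G) ≤ normalizer (K : Set G) := sSup_le fun P hP => by
    intro p hp
    rw [mem_normalizer_iff_cj]
    refine hK.eq p ?_
    have h3 := cj_mono p (hK2 P hP)
    rw [cj_eq_of_mem_normalizer (le_normalizer_o2 P hp)] at h3
    exact h3.trans (hP.isLoc.o2_le S)
  have h2 : zl (S : Subgroup G) (YS (S : Subgroup G)) ≤ centralizer (K : Set G) := by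
    refine zl_le ?_ ?_
    · intro z hz
      exact mem_centralizer_iff.2 fun k hk => (mem_zc.1 hz).2.1 k (hK.le hk)
    · intro y hy
      rw [mem_normalizer_iff_cj, cj_centralizer, cj_eq_of_mem_normalizer (h1 hy)]
  exact (h.max K hK (le_centralizer_iff.1 h2)).trans (MinSimple.VModule.le_centralizer_zc _)

/-- **`Ω₁(Z(W)) ≤ O₂(C_G(Z))` is FF.** -/
theorem false_of_low (hF : Full (S : Subgroup G)) (ml : MLK.{u, u}) (ha : AbsP.{u, u}) (nff : NotFF (zc W))
    (low : zc W ≤ o2 (CZ (S : Subgroup G))) : False := by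
  have hc := hG.char2
  have hSne := hG.sylow_ne_bot S
  have hZ : zc (S : Subgroup G) ≠ ⊥ := MinSimple.Basic.zc_ne_bot S.isPGroup' hSne
  obtain ⟨B, g⟩ := Seed.exists_locY hc hZ (h.stage nff low) (h.seed hG)
  obtain ⟨𝒴, Fa, gas, fl⟩ := g.exists_fam hc hZ h.core (fun R hR => h.par_le hR)
    (N := normalizer (B : Set G)) (le_normalizer_cl _ _) g.adm.comm le_rfl
  have hb := baseFlag_of_fam g.adm.lines le_rfl Fa gas fl g.adm.cs
    (fun _ _ p => p.exists_optY g.oz hc (NO3b.Final.stmtOff G) hSne) hc hSne (M := YS (S : Subgroup G))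
    (h.YS_le.trans g.le) (sSup_le fun P hP => le_sSup ⟨hP, le_YS hP⟩) (MergeNF.nonLoc_YS hG hF)
  exact ExEnd.baseFlag_false hG ml ha hb

end HatW

end Cfsg.Agent.Omega.NOThreeL.RLev.SeedHat
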