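import Cfsg.Agent.Mrg.Omega.NOThreeL.EndFive
import Cfsg.Agent.PLocal.OffenderStep
import Cfsg.Agent.Mrg.Omega.NO3S.SN2.BAOff
import Cfsg.Agent.Mrg.Omega.FrameI

section


/-!
# Box R, t = 1: the level `(Q, V*)` (#27445 (2), (3)), block-free

`Q = C_S(V)`, `V ≤ X` elementary abelian, `E = ⟨A^n : n ∈ N_Y(Q)⟩`, `[X, E] ≤ V`, `[X, A] ≤ Z ≤ V`:

* `comm_cent` : (2) `[A, Q] ≤ C(X)`;
* `comm_of_gen`, `cent_of` : (3) `[Q, X] ≤ C_X(E)`;
* **`Q_cent`** : `Q ≤ C(X)`.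
-/

set_option autoImplicit false
set_option linter.unusedSectionVars false

namespace Cfsg.Agent.Omega.NOThreeL.RLev.VXmod

open Subgroup Cfsg Cfsg.Agent.ZN Cfsg.Agent.ZN.ChoiceBase
open Cfsg.Agent.Omega.FFThm (ElemM NoOverM)

universe u

variable {G : Type u} [Group G]

section two

variable {X V Z Q A E T : Subgroup G}

/-- the elements acting trivially on `V` and on `X / V` -/
def RR (X V : Subgroup G) (Xab : ∀ x ∈ X, ∀ y ∈ X, x * y = y * x) (VX : V ≤ X) : Subgroup G where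
  carrier := {w | w ∈ centralizer (V : Set G) ∧ ∀ x ∈ X, w * x * w⁻¹ * x⁻¹ ∈ V}
  one_mem' := ⟨one_mem _, fun x _ => by simp⟩
  mul_mem' := by
    rintro w w' ⟨h1, h2⟩ ⟨h3, h4⟩
    refine ⟨mul_mem h1 h3, fun x hx => ?_⟩
    have h5 : w * (w' * x * w'⁻¹ * x⁻¹) * w⁻¹ = w' * x * w'⁻¹ * x⁻¹ := by
      rw [← mem_centralizer_iff.1 h1 _ (h4 x hx), mul_inv_cancel_right]
    have h6 : w * w' * x * (w * w')⁻¹ * x⁻¹ = (w * (w' * x * w'⁻¹ * x⁻¹) * w⁻¹) * (w * x * w⁻¹ * x⁻¹) := by group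
    rw [h6, h5]
    exact mul_mem (h4 x hx) (h2 x hx)
  inv_mem' := by
    rintro w ⟨h1, h2⟩
    refine ⟨inv_mem h1, fun x hx => ?_⟩
    have h5 : w⁻¹ * (w * x * w⁻¹ * x⁻¹)⁻¹ * w⁻¹⁻¹ = (w * x * w⁻¹ * x⁻¹)⁻¹ := by
      rw [← mem_centralizer_iff.1 (inv_mem h1) _ (inv_mem (h2 x hx)), mul_inv_cancel_right]
    have h6 : w⁻¹ * x * w⁻¹⁻¹ * x⁻¹ = w⁻¹ * (w * x * w⁻¹ * x⁻¹)⁻¹ * w⁻¹⁻¹ := by group
    rw [h6, h5]
    exact inv_mem (h2 x hx)

theorem RR_mul (Xab : ∀ x ∈ X, ∀ y ∈ X, x * y = y * x) (VX : V ≤ X) {w w' : G} (h : w ∈ RR X V Xab VX)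
    (h' : w' ∈ RR X V Xab VX) {x : G} (hx : x ∈ X) :
    w * w' * x * (w * w')⁻¹ * x⁻¹ = (w * x * w⁻¹ * x⁻¹) * (w' * x * w'⁻¹ * x⁻¹) := by
  have h5 : w * (w' * x * w'⁻¹ * x⁻¹) * w⁻¹ = w' * x * w'⁻¹ * x⁻¹ := by
    rw [← mem_centralizer_iff.1 h.1 _ (h'.2 x hx), mul_inv_cancel_right]
  have h6 : w * w' * x * (w * w')⁻¹ * x⁻¹ = (w * (w' * x * w'⁻¹ * x⁻¹) * w⁻¹) * (w * x * w⁻¹ * x⁻¹) := by group
  rw [h6, h5]
  exact Xab _ (VX (h'.2 x hx)) _ (VX (h.2 x hx))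

/-- the map `w ↦ [w, x]` -/
def phi (Xab : ∀ x ∈ X, ∀ y ∈ X, x * y = y * x) (VX : V ≤ X) (D : Subgroup G) (hD : D ≤ RR X V Xab VX) {x : G}
    (hx : x ∈ X) : D →* G where
  toFun w := (w : G) * x * (w : G)⁻¹ * x⁻¹
  map_one' := by simp
  map_mul' w w' := RR_mul Xab VX (hD w.2) (hD w'.2) hx

/-- the map `x ↦ [u, x]` -/
def psi (Xab : ∀ x ∈ X, ∀ y ∈ X, x * y = y * x) {u : G} (hu : ∀ x ∈ X, u * x * u⁻¹ * x⁻¹ ∈ X) : X →* G where
  toFun x := u * (x : G) * u⁻¹ * (x : G)⁻¹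
  map_one' := by simp
  map_mul' x y := by
    have h1 : u * ((x : G) * (y : G)) * u⁻¹ * ((x : G) * (y : G))⁻¹ =
        (u * (x : G) * u⁻¹ * (x : G)⁻¹) * ((x : G) * (u * (y : G) * u⁻¹ * (y : G)⁻¹) * (x : G)⁻¹) := by group
    rw [coe_mul, h1, Xab _ x.2 _ (hu y y.2), mul_inv_cancel_right]

end two

variable [Finite G]

/-- **(2)** `[A, Q] ≤ C(X)` -/
theorem comm_cent {X V Z Q A E T : Subgroup G} (Xsq : ∀ x ∈ X, x * x = 1) (Xab : ∀ x ∈ X, ∀ y ∈ X, x * y = y * x)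
    (VX : V ≤ X) (ZV : Z ≤ V) (QV : Q ≤ centralizer (V : Set G)) (QX : Q ≤ normalizer (X : Set G))
    (AZ : A ≤ normalizer (Z : Set G)) (AQ : A ≤ normalizer (Q : Set G))
    (EQ : E ≤ normalizer (Q : Set G)) (EV : E ≤ normalizer (V : Set G))
    (EX : ∀ e ∈ E, ∀ x ∈ X, e * x * e⁻¹ * x⁻¹ ∈ V) (hA : ∀ a ∈ A, ∀ x ∈ X, a * x * a⁻¹ * x⁻¹ ∈ Z)
    (big : ∀ W ≤ V, E ≤ normalizer (W : Set G) → W ≠ ⊥ → Nat.card Z < Nat.card W)
    (QT : Q ≤ T) (no : NoOverM X T) : ∀ a ∈ A, ∀ g ∈ Q, a * g * a⁻¹ * g⁻¹ ∈ centralizer (X : Set G) := by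
  intro a ha g hg
  set u : G := a * g * a⁻¹ * g⁻¹ with hu
  have uQ : u ∈ Q := mul_mem ((mem_normalizer_iff.1 (AQ ha) g).1 hg) (inv_mem hg)
  have huZ : ∀ x ∈ X, u * x * u⁻¹ * x⁻¹ ∈ Z := by
    intro x hx
    have hy : g⁻¹ * x * g ∈ X := (mem_normalizer_iff''.1 (QX hg) x).1 hx
    have hz := hA a⁻¹ (inv_mem ha) _ hy
    set z : G := a⁻¹ * (g⁻¹ * x * g) * a⁻¹⁻¹ * (g⁻¹ * x * g)⁻¹ with hzdef
    have h1 : u * x * u⁻¹ * x⁻¹ = (a * (g * z * g⁻¹) * a⁻¹) * (a * x * a⁻¹ * x⁻¹) := by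
      rw [hu, hzdef]; group
    have h2 : g * z * g⁻¹ = z := by
      rw [← mem_centralizer_iff.1 (QV hg) z (ZV hz), mul_inv_cancel_right]
    rw [h1, h2]
    exact mul_mem ((mem_normalizer_iff.1 (AZ ha) z).1 hz) (hA a ha x hx)
  by_contra hcon
  rw [mem_centralizer_iff] at hcon
  push Not at hcon
  obtain ⟨x, hx, hux⟩ := hcon
  have hx' : x ∈ X := hx
  have uR : u ∈ RR X V Xab VX := ⟨QV uQ, fun y hy => ZV (huZ y hy)⟩
  -- conjugates of `u`
  have key : ∀ e ∈ E, ∀ w ∈ RR X V Xab VX, ∀ y ∈ X,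
      (e * w * e⁻¹) * y * (e * w * e⁻¹)⁻¹ * y⁻¹ = e * (w * y * w⁻¹ * y⁻¹) * e⁻¹ := by
    intro e he w hw y hy
    have hv : e⁻¹ * y * e⁻¹⁻¹ * y⁻¹ ∈ V := EX e⁻¹ (inv_mem he) y hy
    set v : G := e⁻¹ * y * e⁻¹⁻¹ * y⁻¹ with hvdef
    have h1 : (e * w * e⁻¹) * y * (e * w * e⁻¹)⁻¹ * y⁻¹ =
        e * ((w * v * w⁻¹) * (w * y * w⁻¹ * y⁻¹) * v⁻¹) * e⁻¹ := by
      rw [hvdef]; group
    have h2 : w * v * w⁻¹ = v := by rw [← mem_centralizer_iff.1 hw.1 v hv, mul_inv_cancel_right]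
    rw [h1, h2, Xab v (VX hv) _ (VX (hw.2 y hy)), mul_inv_cancel_right]
  have conjR : ∀ e ∈ E, ∀ w ∈ RR X V Xab VX, e * w * e⁻¹ ∈ RR X V Xab VX := by
    intro e he w hw
    refine ⟨?_, fun y hy => ?_⟩
    · rw [mem_centralizer_iff]
      intro v hv
      have h1 : e⁻¹ * v * e ∈ V := (mem_normalizer_iff''.1 (EV he) v).1 hv
      have h2 := mem_centralizer_iff.1 hw.1 _ h1
      have h3 : v * (e * w * e⁻¹) = e * ((e⁻¹ * v * e) * w) * e⁻¹ := by group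
      rw [h3, h2]; group
    · rw [key e he w hw y hy]
      exact (mem_normalizer_iff.1 (EV he) _).1 (hw.2 y hy)
  set D : Subgroup G := closure {w | ∃ e ∈ E, w = e * u * e⁻¹} with hD
  have DR : D ≤ RR X V Xab VX := by
    rw [hD, closure_le]
    rintro _ ⟨e, he, rfl⟩
    exact conjR e he u uR
  have DQ : D ≤ Q := by
    rw [hD, closure_le]
    rintro _ ⟨e, he, rfl⟩
    exact (mem_normalizer_iff.1 (EQ he) u).1 uQ
  have uD : u ∈ D := subset_closure ⟨1, one_mem _, by simp⟩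
  have DE : ∀ e ∈ E, ∀ w ∈ D, e * w * e⁻¹ ∈ D := by
    intro e he w hw
    refine closure_induction (p := fun w _ => e * w * e⁻¹ ∈ D) ?_ (by simp) ?_ ?_ hw
    · rintro _ ⟨f, hf, rfl⟩
      exact subset_closure ⟨e * f, mul_mem he hf, by group⟩
    · intro y z _ _ h1 h2
      have : e * (y * z) * e⁻¹ = (e * y * e⁻¹) * (e * z * e⁻¹) := by group
      rw [this]; exact mul_mem h1 h2
    · intro y _ h1
      have : e * y⁻¹ * e⁻¹ = (e * y * e⁻¹)⁻¹ := by group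
      rw [this]; exact inv_mem h1
  -- `C_X(D) = C_X(u)`
  have hC : ∀ y ∈ X, u * y * u⁻¹ * y⁻¹ = 1 → y ∈ X ⊓ centralizer (D : Set G) := by
    intro y hy h1
    refine ⟨hy, mem_centralizer_iff.2 fun w hw => ?_⟩
    refine closure_induction (p := fun w _ => w * y = y * w) ?_ (by simp) ?_ ?_ hw
    · rintro _ ⟨e, he, rfl⟩
      have h2 := key e he u uR y hy
      rw [h1] at h2
      simp only [mul_one, mul_inv_cancel] at h2
      rw [mul_inv_eq_one, mul_inv_eq_iff_eq_mul] at h2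
      exact h2
    · intro a b _ _ h2 h3
      rw [mul_assoc, h3, ← mul_assoc, h2, mul_assoc]
    · intro a _ h2
      rw [inv_mul_eq_iff_eq_mul, ← mul_assoc, h2, mul_assoc, mul_inv_cancel, mul_one]
  -- the two homs
  have h1 : Nat.card X ≤ Nat.card ↥(X ⊓ centralizer (D : Set G)) * Nat.card Z := by
    let ψ := psi Xab (u := u) (fun y hy => VX (ZV (huZ y hy)))
    have h2 := Subgroup.card_mul_index ψ.ker
    rw [Subgroup.index_ker] at h2
    have h3 : Nat.card ψ.range ≤ Nat.card Z := by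
      apply Subgroup.card_le_of_le
      rintro _ ⟨y, rfl⟩
      exact huZ y y.2
    have h4 : Nat.card ψ.ker ≤ Nat.card ↥(X ⊓ centralizer (D : Set G)) := by
      refine Nat.card_le_card_of_injective
        (fun y : ψ.ker => (⟨((y : X) : G), hC _ (y : X).2 (MonoidHom.mem_ker.1 y.2)⟩ :
          ↥(X ⊓ centralizer (D : Set G)))) ?_
      intro y y' h
      have h' : ((y : X) : G) = ((y' : X) : G) :=
        congrArg (fun t : ↥(X ⊓ centralizer (D : Set G)) => (t : G)) h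
      exact Subtype.ext (Subtype.ext h')
    rw [← h2]
    exact Nat.mul_le_mul h4 h3
  have h5 : ∃ W : Subgroup G, W ≤ V ∧ E ≤ normalizer (W : Set G) ∧ W ≠ ⊥ ∧
      Nat.card ↥(D ⊓ centralizer (X : Set G)) * Nat.card W ≤ Nat.card D := by
    let φ := phi Xab VX D DR hx'
    have hmem : ∀ w ∈ φ.range, ∀ e ∈ E, e * w * e⁻¹ ∈ φ.range := by
      rintro _ ⟨w, rfl⟩ e he
      refine ⟨⟨e * (w : G) * e⁻¹, DE e he w w.2⟩, ?_⟩
      exact key e he w (DR w.2) x hx'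
    refine ⟨φ.range, ?_, ?_, ?_, ?_⟩
    · rintro _ ⟨w, rfl⟩
      exact (DR w.2).2 x hx'
    · intro e he
      rw [mem_normalizer_iff]
      intro w
      refine ⟨fun hw => hmem w hw e he, fun hw => ?_⟩
      have h2 := hmem _ hw e⁻¹ (inv_mem he)
      have h3 : e⁻¹ * (e * w * e⁻¹) * e⁻¹⁻¹ = w := by group
      rwa [h3] at h2
    · intro hbot
      have h2 : φ ⟨u, uD⟩ ∈ φ.range := ⟨_, rfl⟩
      rw [hbot, mem_bot] at h2
      have h3 : u * x * u⁻¹ * x⁻¹ = 1 := h2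
      rw [mul_inv_eq_one, mul_inv_eq_iff_eq_mul] at h3
      exact hux h3.symm
    · have h2 := Subgroup.card_mul_index φ.ker
      rw [Subgroup.index_ker] at h2
      rw [← h2]
      refine Nat.mul_le_mul_right _ ?_
      refine Nat.card_le_card_of_injective
        (fun y : ↥(D ⊓ centralizer (X : Set G)) => (⟨⟨(y : G), y.2.1⟩, ?_⟩ : φ.ker)) ?_
      · rw [MonoidHom.mem_ker]
        change (y : G) * x * (y : G)⁻¹ * x⁻¹ = 1
        rw [← mem_centralizer_iff.1 y.2.2 x hx', mul_inv_cancel_right, mul_inv_cancel]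
      · intro y y' h
        exact Subtype.ext (congrArg (fun t : φ.ker => ((t : D) : G)) h)
  obtain ⟨W, WV, WE, Wne, hW⟩ := h5
  have hEl : ElemM X D := by
    refine ⟨fun w hw => ?_, fun w hw w' hw' => ?_⟩
    · rw [mem_centralizer_iff]
      intro y hy
      have h2 := RR_mul Xab VX (DR hw) (DR hw) hy
      rw [Xsq _ (VX ((DR hw).2 y hy)), mul_inv_eq_one, mul_inv_eq_iff_eq_mul, ← pow_two] at h2
      exact h2.symm
    · rw [mem_centralizer_iff]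
      intro y hy
      have h2 := RR_mul Xab VX (DR hw) (DR hw') hy
      have h3 := RR_mul Xab VX (DR hw') (DR hw) hy
      rw [Xab _ (VX ((DR hw).2 y hy)) _ (VX ((DR hw').2 y hy)), ← h3] at h2
      have h4 : w * w' * y * (w * w')⁻¹ = w' * w * y * (w' * w)⁻¹ := mul_right_cancel h2
      have h5 : ∀ y ∈ X, w * w' * y * (w * w')⁻¹ = w' * w * y * (w' * w)⁻¹ := by
        intro y hy
        have h2 := RR_mul Xab VX (DR hw) (DR hw') hy
        have h3 := RR_mul Xab VX (DR hw') (DR hw) hy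
        rw [Xab _ (VX ((DR hw).2 y hy)) _ (VX ((DR hw').2 y hy)), ← h3] at h2
        exact mul_right_cancel h2
      have hmem : w * w' * w⁻¹ * w'⁻¹ ∈ RR X V Xab VX :=
        mul_mem (mul_mem (mul_mem (DR hw) (DR hw')) (inv_mem (DR hw))) (inv_mem (DR hw'))
      have h6 : (w * w' * w⁻¹ * w'⁻¹) * (w' * w) = w * w' := by group
      have h7 := RR_mul Xab VX hmem (mul_mem (DR hw') (DR hw)) hy
      rw [h6, h5 y hy] at h7
      have h8 : (w * w' * w⁻¹ * w'⁻¹) * y * (w * w' * w⁻¹ * w'⁻¹)⁻¹ * y⁻¹ = 1 := by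
        have := h7.symm
        rwa [mul_eq_right] at this
      rw [mul_inv_eq_one, mul_inv_eq_iff_eq_mul] at h8
      exact h8.symm
  have h6 := no D (DQ.trans QT) hEl
  have h7 := big W WV WE Wne
  have p1 : 0 < Nat.card ↥(D ⊓ centralizer (X : Set G)) := Nat.card_pos
  have p2 : 0 < Nat.card ↥(X ⊓ centralizer (D : Set G)) := Nat.card_pos
  have h8 : Nat.card ↥(D ⊓ centralizer (X : Set G)) * Nat.card W * Nat.card ↥(X ⊓ centralizer (D : Set G)) ≤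
      Nat.card ↥(X ⊓ centralizer (D : Set G)) * Nat.card Z * Nat.card ↥(D ⊓ centralizer (X : Set G)) :=
    (Nat.mul_le_mul_right _ hW).trans (h6.trans (Nat.mul_le_mul_right _ h1))
  have h9 : (Nat.card ↥(D ⊓ centralizer (X : Set G)) * Nat.card ↥(X ⊓ centralizer (D : Set G))) * Nat.card W ≤
      (Nat.card ↥(D ⊓ centralizer (X : Set G)) * Nat.card ↥(X ⊓ centralizer (D : Set G))) * Nat.card Z := by
    calc _ = Nat.card ↥(D ⊓ centralizer (X : Set G)) * Nat.card W *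
          Nat.card ↥(X ⊓ centralizer (D : Set G)) := by ring
      _ ≤ _ := h8
      _ = _ := by ring
  exact absurd (Nat.le_of_mul_le_mul_left h9 (Nat.mul_pos p1 p2)) (not_le.2 h7)

/-- `[e, g] ∈ C(X)`, `[e, x] ∈ V`, `g ∈ C(V)` ⟹ `e` commutes with `[g, x]` -/
theorem cent_of {X V : Subgroup G} (Xab : ∀ x ∈ X, ∀ y ∈ X, x * y = y * x) (VX : V ≤ X) {e g x : G}
    (hgX : g ∈ normalizer (X : Set G)) (hgV : g ∈ centralizer (V : Set G)) (hx : x ∈ X)
    (hv : e * x * e⁻¹ * x⁻¹ ∈ V) (hc : e * g * e⁻¹ * g⁻¹ ∈ centralizer (X : Set G)) :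
    e * (g * x * g⁻¹ * x⁻¹) * e⁻¹ = g * x * g⁻¹ * x⁻¹ := by
  set v : G := e * x * e⁻¹ * x⁻¹ with hvdef
  set c : G := e * g * e⁻¹ * g⁻¹ with hcdef
  have hgx : g * x * g⁻¹ ∈ X := (mem_normalizer_iff.1 hgX x).1 hx
  have h1 : e * (g * x * g⁻¹ * x⁻¹) * e⁻¹ = c * ((g * v * g⁻¹) * (g * x * g⁻¹)) * c⁻¹ * (x⁻¹ * v⁻¹) := by
    rw [hvdef, hcdef]; group
  have h2 : g * v * g⁻¹ = v := by rw [← mem_centralizer_iff.1 hgV v hv, mul_inv_cancel_right]
  have h3 : c * (v * (g * x * g⁻¹)) * c⁻¹ = v * (g * x * g⁻¹) := by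
    rw [← mem_centralizer_iff.1 hc _ (mul_mem (VX hv) hgx), mul_inv_cancel_right]
  have h4 : v * (g * x * g⁻¹) * (x⁻¹ * v⁻¹) = v * (g * x * g⁻¹ * x⁻¹) * v⁻¹ := by group
  rw [h1, h2, h3, h4, Xab v (VX hv) _ (mul_mem hgx (inv_mem hx)), mul_inv_cancel_right]

/-- `[E, Q] ≤ C(X)` from `[A, Q] ≤ C(X)`, `E = ⟨A^N⟩` -/
theorem comm_of_gen {X Q A N : Subgroup G} (NX : N ≤ normalizer (X : Set G)) (NQ : N ≤ normalizer (Q : Set G))
    (AN : A ≤ N) (h : ∀ a ∈ A, ∀ g ∈ Q, a * g * a⁻¹ * g⁻¹ ∈ centralizer (X : Set G)) :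
    ∀ e ∈ closure {w | ∃ n ∈ N, ∃ a ∈ A, w = n * a * n⁻¹}, ∀ g ∈ Q,
      e * g * e⁻¹ * g⁻¹ ∈ centralizer (X : Set G) := by
  have hcj : ∀ n ∈ N, ∀ c ∈ centralizer (X : Set G), n * c * n⁻¹ ∈ centralizer (X : Set G) := by
    intro n hn c hc
    rw [mem_centralizer_iff]
    intro x hx
    have h1 : n⁻¹ * x * n ∈ X := (mem_normalizer_iff''.1 (NX hn) x).1 hx
    have h2 := mem_centralizer_iff.1 hc _ h1
    have h3 : x * (n * c * n⁻¹) = n * ((n⁻¹ * x * n) * c) * n⁻¹ := by group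
    rw [h3, h2]; group
  have hEN : closure {w | ∃ n ∈ N, ∃ a ∈ A, w = n * a * n⁻¹} ≤ N := by
    rw [closure_le]
    rintro _ ⟨n, hn, a, ha, rfl⟩
    exact mul_mem (mul_mem hn (AN ha)) (inv_mem hn)
  intro e he
  refine closure_induction (p := fun e _ => ∀ g ∈ Q, e * g * e⁻¹ * g⁻¹ ∈ centralizer (X : Set G))
    ?_ ?_ ?_ ?_ he
  · rintro _ ⟨n, hn, a, ha, rfl⟩ g hg
    have h1 : n⁻¹ * g * n ∈ Q := (mem_normalizer_iff''.1 (NQ hn) g).1 hg
    have h2 : n * a * n⁻¹ * g * (n * a * n⁻¹)⁻¹ * g⁻¹ =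
        n * (a * (n⁻¹ * g * n) * a⁻¹ * (n⁻¹ * g * n)⁻¹) * n⁻¹ := by group
    rw [h2]
    exact hcj n hn _ (h a ha _ h1)
  · intro g _
    simp
  · intro y z hy _ h1 h2 g hg
    have h3 : y * z * g * (y * z)⁻¹ * g⁻¹ = (y * (z * g * z⁻¹ * g⁻¹) * y⁻¹) * (y * g * y⁻¹ * g⁻¹) := by group
    rw [h3]
    exact mul_mem (hcj y (hEN hy) _ (h2 g hg)) (h1 g hg)
  · intro y hy h1 g hg
    have h3 : y⁻¹ * g * y⁻¹⁻¹ * g⁻¹ = y⁻¹ * (y * g * y⁻¹ * g⁻¹)⁻¹ * y⁻¹⁻¹ := by group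
    rw [h3]
    exact hcj y⁻¹ (inv_mem (hEN hy)) _ (inv_mem (h1 g hg))

/-- **(2), (3)** `Q = C_S(V) ≤ C(X)` -/
theorem Q_cent (S : Sylow 2 G) {X V Z A Y : Subgroup G} (Xsq : ∀ x ∈ X, x * x = 1)
    (Xab : ∀ x ∈ X, ∀ y ∈ X, x * y = y * x) (VX : V ≤ X) (SY : (S : Subgroup G) ≤ Y)
    (YX : Y ≤ normalizer (X : Set G)) (YV : Y ≤ normalizer (V : Set G))
    (irr : ∀ U ≤ V, Y ≤ normalizer (U : Set G) → U ≠ ⊥ → V ≤ U)
    (cS : X ⊓ centralizer ((S : Subgroup G) : Set G) ≤ V) (AS : A ≤ (S : Subgroup G))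
    (ne : ¬ A ≤ centralizer (V : Set G)) (ZV : Z ≤ V) (AZ : ∀ a ∈ A, ∀ z ∈ Z, a * z = z * a)
    (hA : ∀ a ∈ A, ∀ x ∈ X, a * x * a⁻¹ * x⁻¹ ∈ Z)
    (hW : ∀ W ≤ V, A ≤ normalizer (W : Set G) → ¬ A ≤ centralizer (W : Set G) → Nat.card Z < Nat.card W)
    (no : NoOverM X (S : Subgroup G)) :
    (S : Subgroup G) ⊓ centralizer (V : Set G) ≤ centralizer (X : Set G) := by
  set Q : Subgroup G := (S : Subgroup G) ⊓ centralizer (V : Set G) with hQ
  set N : Subgroup G := Y ⊓ normalizer (Q : Set G) with hN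
  set E : Subgroup G := closure {w | ∃ n ∈ N, ∃ a ∈ A, w = n * a * n⁻¹} with hE
  have SQ : (S : Subgroup G) ≤ normalizer (Q : Set G) := by
    intro s hs
    rw [mem_normalizer_iff_cj, hQ, cj_inf, cj_centralizer, mem_normalizer_iff_cj.1 (YV (SY hs)),
      cj_eq_of_mem_normalizer (Subgroup.le_normalizer hs)]
  have SN : (S : Subgroup G) ≤ N := le_inf SY SQ
  have AN : A ≤ N := AS.trans SN
  have EN : E ≤ N := by
    rw [hE, closure_le]
    rintro _ ⟨n, hn, a, ha, rfl⟩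
    exact mul_mem (mul_mem hn (AN ha)) (inv_mem hn)
  have EcN : ∀ n ∈ N, ∀ e ∈ E, n * e * n⁻¹ ∈ E := by
    intro n hn e he
    refine closure_induction (p := fun e _ => n * e * n⁻¹ ∈ E) ?_ (by simp) ?_ ?_ he
    · rintro _ ⟨m, hm, a, ha, rfl⟩
      exact subset_closure ⟨n * m, mul_mem hn hm, a, ha, by group⟩
    · intro y z _ _ h1 h2
      have : n * (y * z) * n⁻¹ = (n * y * n⁻¹) * (n * z * n⁻¹) := by group
      rw [this]; exact mul_mem h1 h2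
    · intro y _ h1
      have : n * y⁻¹ * n⁻¹ = (n * y * n⁻¹)⁻¹ := by group
      rw [this]; exact inv_mem h1
  have EX : ∀ e ∈ E, ∀ x ∈ X, e * x * e⁻¹ * x⁻¹ ∈ V := by
    intro e he
    refine closure_induction (p := fun e _ => ∀ x ∈ X, e * x * e⁻¹ * x⁻¹ ∈ V) ?_ ?_ ?_ ?_ he
    · rintro _ ⟨n, hn, a, ha, rfl⟩ x hx
      have h1 : n⁻¹ * x * n ∈ X := (mem_normalizer_iff''.1 (YX hn.1) x).1 hx
      have h2 : n * a * n⁻¹ * x * (n * a * n⁻¹)⁻¹ * x⁻¹ =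
          n * (a * (n⁻¹ * x * n) * a⁻¹ * (n⁻¹ * x * n)⁻¹) * n⁻¹ := by group
      rw [h2]
      exact (mem_normalizer_iff.1 (YV hn.1) _).1 (ZV (hA a ha _ h1))
    · intro x _
      simp
    · intro y z hy _ h1 h2 x hx
      have h3 : y * z * x * (y * z)⁻¹ * x⁻¹ = (y * (z * x * z⁻¹ * x⁻¹) * y⁻¹) * (y * x * y⁻¹ * x⁻¹) := by group
      rw [h3]
      exact mul_mem ((mem_normalizer_iff.1 (YV (EN hy).1) _).1 (h2 x hx)) (h1 x hx)
    · intro y hy h1 x hx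
      have h3 : y⁻¹ * x * y⁻¹⁻¹ * x⁻¹ = y⁻¹ * (y * x * y⁻¹ * x⁻¹)⁻¹ * y⁻¹⁻¹ := by group
      rw [h3]
      exact (mem_normalizer_iff.1 (YV (inv_mem (EN hy).1)) _).1 (inv_mem (h1 x hx))
  -- `C_V(E) = 1`
  have hfix : ∀ n ∈ N, ∀ v ∈ V ⊓ centralizer (E : Set G), n * v * n⁻¹ ∈ V ⊓ centralizer (E : Set G) := by
    intro n hn v hv
    refine ⟨(mem_normalizer_iff.1 (YV hn.1) v).1 hv.1, mem_centralizer_iff.2 fun e he => ?_⟩
    have h1 : n⁻¹ * e * n ∈ E := by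
      have := EcN n⁻¹ (inv_mem hn) e he
      rwa [inv_inv] at this
    have h2 := mem_centralizer_iff.1 hv.2 _ h1
    have h3 : e * (n * v * n⁻¹) = n * ((n⁻¹ * e * n) * v) * n⁻¹ := by group
    rw [h3, h2]; group
  have cVE : V ⊓ centralizer (E : Set G) = ⊥ := by
    by_contra hbot
    have hK : (S : Subgroup G) ≤ normalizer ((Y ⊓ centralizer (V : Set G) : Subgroup G) : Set G) := by
      intro s hs
      rw [mem_normalizer_iff_cj, cj_inf, cj_centralizer, mem_normalizer_iff_cj.1 (YV (SY hs)),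
        cj_eq_of_mem_normalizer (Subgroup.le_normalizer (SY hs))]
    have hYn : Y ≤ normalizer ((V ⊓ centralizer (E : Set G) : Subgroup G) : Set G) := by
      have hm : ∀ y ∈ Y, ∀ v ∈ V ⊓ centralizer (E : Set G), y * v * y⁻¹ ∈ V ⊓ centralizer (E : Set G) := by
        intro y hy v hv
        have hyK : y ∈ normalizer ((Y ⊓ centralizer (V : Set G) : Subgroup G) : Set G) := by
          rw [mem_normalizer_iff_cj, cj_inf, cj_centralizer, mem_normalizer_iff_cj.1 (YV hy),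
            cj_eq_of_mem_normalizer (Subgroup.le_normalizer hy)]
        obtain ⟨c, hc, hn⟩ := EndFive.frattini hK hyK
        have hQ2 : (S : Subgroup G) ⊓ (Y ⊓ centralizer (V : Set G)) = Q := by
          rw [hQ, ← inf_assoc, inf_eq_left.2 SY]
        rw [hQ2] at hn
        have hcY : c ∈ Y := (mem_inf.1 hc).1
        have hcV : c ∈ centralizer (V : Set G) := (mem_inf.1 hc).2
        have hnN : c⁻¹ * y ∈ N := mem_inf.2 ⟨mul_mem (inv_mem hcY) hy, hn⟩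
        have h1 := hfix _ hnN v hv
        have h2 : y * v * y⁻¹ = c * (c⁻¹ * y * v * (c⁻¹ * y)⁻¹) * c⁻¹ := by group
        rw [h2, ← mem_centralizer_iff.1 hcV _ h1.1, mul_inv_cancel_right]
        exact h1
      intro y hy
      rw [mem_normalizer_iff]
      intro v
      refine ⟨hm y hy v, fun hv => ?_⟩
      have h1 := hm y⁻¹ (inv_mem hy) _ hv
      have h2 : y⁻¹ * (y * v * y⁻¹) * y⁻¹⁻¹ = v := by group
      rwa [h2] at h1
    have h1 := irr _ inf_le_left hYn hbot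
    apply ne
    have h2 : A ≤ E := fun a ha => subset_closure ⟨1, one_mem _, a, ha, by simp⟩
    intro a ha
    rw [mem_centralizer_iff]
    intro v hv
    exact (mem_centralizer_iff.1 (h1 hv).2 a (h2 ha)).symm
  -- `big`
  have big : ∀ W ≤ V, E ≤ normalizer (W : Set G) → W ≠ ⊥ → Nat.card Z < Nat.card W := by
    intro W hWV hEW hne
    by_contra hlt
    apply hne
    rw [eq_bot_iff, ← cVE]
    refine le_inf hWV ?_
    rw [le_centralizer_iff]
    rw [hE, closure_le]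
    rintro _ ⟨n, hn, a, ha, rfl⟩
    by_contra hcon
    apply hlt
    have h1 : Nat.card Z < Nat.card (cj n⁻¹ W) := by
      refine hW _ ?_ ?_ ?_
      · rw [cj_le_iff, inv_inv]
        rw [mem_normalizer_iff_cj.1 (YV hn.1)]
        exact hWV
      · intro b hb
        have h2 : n * b * n⁻¹ ∈ normalizer (W : Set G) := hEW (subset_closure ⟨n, hn, b, hb, rfl⟩)
        rw [mem_normalizer_iff_cj] at h2 ⊢
        rw [cj_cj]
        have h3 : b * n⁻¹ = n⁻¹ * (n * b * n⁻¹) := by group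
        rw [h3, ← cj_cj, h2]
      · intro h2
        apply hcon
        rw [SetLike.mem_coe, mem_centralizer_iff]
        intro w hw
        have h3 : n⁻¹ * w * n ∈ cj n⁻¹ W := ⟨w, hw, by simp⟩
        have h4 := mem_centralizer_iff.1 (h2 ha) _ h3
        have h5 : w * (n * a * n⁻¹) = n * ((n⁻¹ * w * n) * a) * n⁻¹ := by group
        rw [h5, h4]; group
    rwa [card_cj] at h1
  have QX : Q ≤ normalizer (X : Set G) := inf_le_left.trans (SY.trans YX)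
  have h1 := comm_cent Xsq Xab VX ZV (inf_le_right : Q ≤ centralizer (V : Set G)) QX
    (fun a ha => by
      rw [mem_normalizer_iff]
      intro z
      constructor
      · intro hz
        rw [AZ a ha z hz, mul_inv_cancel_right]; exact hz
      · intro hz
        have h2 := AZ a ha _ hz
        have h3 : z = a * z * a⁻¹ := by
          have h4 : a⁻¹ * (a * (a * z * a⁻¹)) * a = a⁻¹ * ((a * z * a⁻¹) * a) * a := by rw [h2]
          have h5 : a⁻¹ * (a * (a * z * a⁻¹)) * a = a * z := by group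
          have h6 : a⁻¹ * ((a * z * a⁻¹) * a) * a = z * a := by group
          rw [h5, h6] at h4
          rw [h4, mul_inv_cancel_right]
        rw [h3]; exact hz)
    (AN.trans inf_le_right) (EN.trans inf_le_right) (EN.trans (inf_le_left.trans YV)) EX hA big
    (inf_le_left : Q ≤ (S : Subgroup G)) no
  have h2 := comm_of_gen (N := N) (inf_le_left.trans YX) inf_le_right AN h1
  -- `C_X(E) = 1`
  have cXE : X ⊓ centralizer (E : Set G) = ⊥ := by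
    by_contra hbot
    have hX2 : IsPGroup 2 ↥(X ⊓ centralizer (E : Set G)) := by
      intro x
      refine ⟨1, ?_⟩
      apply Subtype.ext
      rw [pow_one, pow_two]
      exact Xsq _ x.2.1
    have hSn : (S : Subgroup G) ≤ normalizer ((X ⊓ centralizer (E : Set G) : Subgroup G) : Set G) := by
      intro s hs
      have hEs : cj s E = E := by
        apply le_antisymm
        · rintro _ ⟨e, he, rfl⟩
          exact EcN s (SN hs) e he
        · intro e he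
          refine ⟨s⁻¹ * e * s, ?_, by simp [mul_assoc]⟩
          have := EcN s⁻¹ (inv_mem (SN hs)) e he
          rwa [inv_inv] at this
      rw [mem_normalizer_iff_cj, cj_inf, cj_centralizer, hEs, mem_normalizer_iff_cj.1 (YX (SY hs))]
    have h3 := PLocal.OffenderStep.inf_centralizer_ne_bot _ (S : Subgroup G) hX2 S.isPGroup' hSn hbot
    apply h3
    rw [eq_bot_iff, ← cVE]
    exact fun x hx => ⟨cS ⟨hx.1.1, hx.2⟩, hx.1.2⟩
  intro g hg
  rw [mem_centralizer_iff]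
  intro x hx
  have hx' : x ∈ X := hx
  have hgX : g * x * g⁻¹ * x⁻¹ ∈ X := mul_mem ((mem_normalizer_iff.1 (QX hg) x).1 hx') (inv_mem hx')
  have h4 : g * x * g⁻¹ * x⁻¹ ∈ X ⊓ centralizer (E : Set G) := by
    refine ⟨hgX, mem_centralizer_iff.2 fun e he => ?_⟩
    have h5 := cent_of Xab VX (QX hg) hg.2 hx' (EX e he x hx') (h2 e he g hg)
    rwa [mul_inv_eq_iff_eq_mul] at h5
  rw [cXE, mem_bot, mul_inv_eq_one, mul_inv_eq_iff_eq_mul] at h4
  exact h4.symm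

end Cfsg.Agent.Omega.NOThreeL.RLev.VXmod

end

section


/-!
# Box R, t = 1: the level `(Q, V*)` (#27445 (2), (3)), `A` a root group on one block

* **`Q_cent_root`** : `VXmod.Q_cent`, `A` acts on the block `N₁` as the full root group with line `l` and centralises the
  complement `Co` of `N₁` in `V`.
-/

set_option autoImplicit false
set_option linter.unusedSectionVars false

namespace Cfsg.Agent.Omega.NOThreeL.RLev.VXmod

open Subgroup Cfsg Cfsg.Agent.ZN Cfsg.Agent.ZN.ChoiceBase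
open Cfsg.Agent.Omega.FFThm (ElemM NoOverM)
open Cfsg.Agent.Omega.NOThreeL.RWide (RootOn)

universe u

variable {G : Type u} [Group G]

section root

variable {X V N₁ Co l A : Subgroup G} (Xab : ∀ x ∈ X, ∀ y ∈ X, x * y = y * x) (VX : V ≤ X)
  (hV : V ≤ N₁ ⊔ Co) (NV : N₁ ≤ V) (CV : Co ≤ V) (hr : RootOn A N₁ l) (lN : l ≤ N₁)
  (hC : A ≤ centralizer (Co : Set G))
include Xab VX hV NV CV hr lN hC

/-- `[a, n c] = [a, n]` -/
theorem exists_split {v : G} (hv : v ∈ V) : ∃ n ∈ N₁, ∃ c ∈ Co, v = n * c ∧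
    ∀ a ∈ A, a * v * a⁻¹ * v⁻¹ = a * n * a⁻¹ * n⁻¹ := by
  have h1 : N₁ ≤ centralizer (Co : Set G) := by
    intro n hn
    rw [mem_centralizer_iff]
    intro c hc
    exact Xab c (VX (CV hc)) n (VX (NV hn))
  have h2 : v ∈ N₁ ⊔ Co := hV hv
  have h3 : N₁ ≤ normalizer (Co : Set G) := by
    intro n hn
    rw [mem_normalizer_iff]
    intro c
    have h4 : ∀ m ∈ N₁, ∀ d ∈ Co, m * d * m⁻¹ = d := fun m hm d hd => by
      rw [← mem_centralizer_iff.1 (h1 hm) d hd, mul_inv_cancel_right]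
    constructor
    · intro hc
      rw [h4 n hn c hc]; exact hc
    · intro hc
      have h5 := h4 n⁻¹ (inv_mem hn) _ hc
      have h6 : n⁻¹ * (n * c * n⁻¹) * n⁻¹⁻¹ = c := by group
      rw [h6] at h5
      rw [h5]; exact hc
  rw [← SetLike.mem_coe, Subgroup.coe_mul_of_left_le_normalizer_right N₁ Co h3] at h2
  obtain ⟨n, hn, c, hc, rfl⟩ := h2
  refine ⟨n, hn, c, hc, rfl, fun a ha => ?_⟩
  have h7 : c * a = a * c := mem_centralizer_iff.1 (hC ha) c hc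
  have h8 : a * (n * c) * a⁻¹ * (n * c)⁻¹ = a * n * (c * a⁻¹ * c⁻¹) * n⁻¹ := by group
  have h9 : c * a⁻¹ * c⁻¹ = a⁻¹ := by
    have : c * a⁻¹ * c⁻¹ = (c * a * c⁻¹)⁻¹ := by group
    rw [this, h7, mul_inv_cancel_right]
  exact h8.trans (by rw [h9])

theorem comm_mem (XA : X ≤ V ⊔ (X ⊓ centralizer (A : Set G))) : ∀ a ∈ A, ∀ x ∈ X, a * x * a⁻¹ * x⁻¹ ∈ l := by
  intro a ha x hx
  have h3 : V ≤ normalizer ((X ⊓ centralizer (A : Set G) : Subgroup G) : Set G) := by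
    intro v hv
    have h4 : ∀ m ∈ V, ∀ d ∈ X, m * d * m⁻¹ = d := fun m hm d hd => by
      rw [Xab m (VX hm) d hd, mul_inv_cancel_right]
    rw [mem_normalizer_iff]
    intro c
    constructor
    · intro hc
      rw [h4 v hv c hc.1]; exact hc
    · intro hc
      have h5 := h4 v⁻¹ (inv_mem hv) _ hc.1
      have h6 : v⁻¹ * (v * c * v⁻¹) * v⁻¹⁻¹ = c := by group
      rw [h6] at h5
      rw [h5]; exact hc
  have h2 := XA hx
  rw [← SetLike.mem_coe, Subgroup.coe_mul_of_left_le_normalizer_right _ _ h3] at h2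
  obtain ⟨v, hv, y, hy, rfl⟩ := h2
  obtain ⟨n, hn, c, hc, hvn, hcomm⟩ := exists_split Xab VX hV NV CV hr lN hC hv
  have h7 : a * y = y * a := mem_centralizer_iff.1 hy.2 a ha
  have h8 : a * (v * y) * a⁻¹ * (v * y)⁻¹ = a * v * (y * a⁻¹ * y⁻¹) * v⁻¹ := by group
  have h9 : y * a⁻¹ * y⁻¹ = a⁻¹ := by
    have : y * a⁻¹ * y⁻¹ = (y * a * y⁻¹)⁻¹ := by group
    rw [this, ← h7, mul_inv_cancel_right]
  have h10 : a * (v * y) * a⁻¹ * (v * y)⁻¹ = a * n * a⁻¹ * n⁻¹ := by rw [h8, h9]; exact hcomm a ha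
  change a * (v * y) * a⁻¹ * (v * y)⁻¹ ∈ l
  rw [h10]
  exact hr.comm a ha n hn

theorem card_lt [Finite G] {W : Subgroup G} (hW : W ≤ V) (hA : A ≤ normalizer (W : Set G))
    (hne : ¬ A ≤ centralizer (W : Set G)) : Nat.card l < Nat.card W := by
  obtain ⟨a, ha, haW⟩ := SetLike.not_le_iff_exists.1 hne
  rw [mem_centralizer_iff] at haW
  push Not at haW
  obtain ⟨w, hw, hwa⟩ := haW
  have hw' : w ∈ W := hw
  obtain ⟨n, hn, c, hc, hvn, hcomm⟩ := exists_split Xab VX hV NV CV hr lN hC (hW hw')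
  have key : ∀ z ∈ l, ∀ b ∈ A, b * z = z * b := fun z hz b hb => hr.fixZ b hb z hz
  have hnl : n ∉ l := by
    intro hnl
    apply hwa
    have h1 := hcomm a ha
    rw [key n hnl a ha, mul_inv_cancel_right, mul_inv_cancel, mul_inv_eq_one, mul_inv_eq_iff_eq_mul] at h1
    exact h1.symm
  have hwl : w ∉ l := fun hwl => hwa (key w hwl a ha).symm
  have hlW : l ≤ W := by
    rcases hr.full with h0 | h0
    · exfalso
      apply hwa
      have h1 := hcomm a ha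
      rw [← mem_centralizer_iff.1 (h0 ha) n hn, mul_inv_cancel_right, mul_inv_cancel, mul_inv_eq_one,
        mul_inv_eq_iff_eq_mul] at h1
      exact h1.symm
    · intro z hz
      obtain ⟨f, hf, hfz⟩ := (h0 n hn hnl).1 z hz
      rw [← hfz, ← hcomm f hf]
      exact mul_mem ((mem_normalizer_iff.1 (hA hf) w).1 hw') (inv_mem hw')
  refine lt_of_le_of_ne (Subgroup.card_le_of_le hlW) fun h => hwl ?_
  have h1 : l = W := Subgroup.eq_of_le_of_card_ge hlW h.ge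
  rw [h1]; exact hw'

end root

/-- **(2), (3)** with a root group on one block: `C_S(V) ≤ C(X)`. -/
theorem Q_cent_root [Finite G] (S : Sylow 2 G) {X V N₁ Co l A Y : Subgroup G} (Xsq : ∀ x ∈ X, x * x = 1)
    (Xab : ∀ x ∈ X, ∀ y ∈ X, x * y = y * x) (VX : V ≤ X) (SY : (S : Subgroup G) ≤ Y)
    (YX : Y ≤ normalizer (X : Set G)) (YV : Y ≤ normalizer (V : Set G))
    (irr : ∀ U ≤ V, Y ≤ normalizer (U : Set G) → U ≠ ⊥ → V ≤ U)
    (cS : X ⊓ centralizer ((S : Subgroup G) : Set G) ≤ V) (AS : A ≤ (S : Subgroup G))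
    (ne : ¬ A ≤ centralizer (V : Set G)) (hV : V ≤ N₁ ⊔ Co) (NV : N₁ ≤ V) (CV : Co ≤ V) (hr : RootOn A N₁ l)
    (lN : l ≤ N₁) (hC : A ≤ centralizer (Co : Set G)) (XA : X ≤ V ⊔ (X ⊓ centralizer (A : Set G)))
    (no : NoOverM X (S : Subgroup G)) :
    (S : Subgroup G) ⊓ centralizer (V : Set G) ≤ centralizer (X : Set G) :=
  Q_cent S Xsq Xab VX SY YX YV irr cS AS ne (lN.trans NV) hr.fixZ (comm_mem Xab VX hV NV CV hr lN hC XA)
    (fun _ h1 h2 h3 => card_lt Xab VX hV NV CV hr lN hC h1 h2 h3) no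

end Cfsg.Agent.Omega.NOThreeL.RLev.VXmod

end

section


/-!
# #27445 (helper553), step (2), pure: `[A, Q] ≤ C(X)` (helper819)

`u_cent` : `u ∈ Q` with `[X, u] ≤ l`, `L` trivial on `X / V`, `⟨c ^ L⟩ = N` for `1 ≠ c ∈ l`, `|l| < |N|`, no over-offender
on `X` : `u` centralises `X` (otherwise `⟨u ^ L⟩` over-offends).
-/

set_option autoImplicit false
set_option linter.unusedSectionVars false

namespace Cfsg.Agent.Omega.NOThreeL.RLev.VXu

open Subgroup Cfsg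
open Cfsg.Agent.Omega.FFThm

universe u

variable {G : Type u} [Group G]

theorem comm_of {s x : G} (h : s * x * s⁻¹ * x⁻¹ = 1) : x * s = s * x := by
  calc x * s = (s * x * s⁻¹ * x⁻¹)⁻¹ * (s * x) := by group
    _ = s * x := by rw [h, inv_one, one_mul]

theorem u_cent [Finite G] {S X V Q N l L : Subgroup G} {u : G} (no : NoOverM X S) (QS : Q ≤ S)
    (Xc : X ≤ centralizer (X : Set G)) (VX : V ≤ X) (QV : Q ≤ centralizer (V : Set G)) (NV : N ≤ V)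
    (sqN : ∀ v ∈ N, v ^ 2 = 1) (lN : l ≤ N) (hu : u ∈ Q) (ul : ∀ x ∈ X, u * x * u⁻¹ * x⁻¹ ∈ l)
    (LX : ∀ m ∈ L, ∀ x ∈ X, m * x * m⁻¹ * x⁻¹ ∈ V) (LQ : L ≤ normalizer (Q : Set G))
    (LN : L ≤ normalizer (N : Set G))
    (gen : ∀ c ∈ l, c ≠ 1 → N ≤ closure {x | ∃ m ∈ L, x = m * c * m⁻¹}) (hcard : Nat.card l < Nat.card N) :
    u ∈ centralizer (X : Set G) := by
  by_contra hne
  have hex : ∃ x₀ ∈ X, u * x₀ * u⁻¹ * x₀⁻¹ ≠ 1 := by
    by_contra hcon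
    push Not at hcon
    apply hne
    rw [mem_centralizer_iff]
    intro x hx
    have h1 := hcon x hx
    calc x * u = (u * x * u⁻¹ * x⁻¹)⁻¹ * (u * x) := by group
      _ = u * x := by rw [h1]; group
  obtain ⟨x₀, hx₀, hc1⟩ := hex
  set c : G := u * x₀ * u⁻¹ * x₀⁻¹ with hc
  have hcl : c ∈ l := ul x₀ hx₀
  have lX : l ≤ X := lN.trans (NV.trans VX)
  have NX : N ≤ X := NV.trans VX
  have cX : ∀ x ∈ X, ∀ y ∈ X, x * y = y * x := fun x hx y hy => mem_centralizer_iff.1 (Xc hy) x hx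
  -- the generators
  have hgen : ∀ m ∈ L, ∀ x ∈ X, (m * u * m⁻¹) * x * (m * u * m⁻¹)⁻¹ * x⁻¹ = m * (u * x * u⁻¹ * x⁻¹) * m⁻¹ := by
    intro m hm x hx
    set v : G := m⁻¹ * x * m * x⁻¹ with hv
    have hvV : v ∈ V := by
      have := LX m⁻¹ (inv_mem hm) x hx
      rwa [inv_inv] at this
    have e1 : m⁻¹ * x * m = v * x := by rw [hv]; group
    have h1 : v * u = u * v := mem_centralizer_iff.1 (QV hu) v hvV
    have h2 : v * (u * x * u⁻¹ * x⁻¹) = (u * x * u⁻¹ * x⁻¹) * v := cX v (VX hvV) _ (lX (ul x hx))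
    calc (m * u * m⁻¹) * x * (m * u * m⁻¹)⁻¹ * x⁻¹
        = m * (u * (m⁻¹ * x * m) * u⁻¹ * (m⁻¹ * x * m)⁻¹) * m⁻¹ := by group
      _ = m * ((u * v) * x * u⁻¹ * x⁻¹ * v⁻¹) * m⁻¹ := by rw [e1]; group
      _ = m * (v * (u * x * u⁻¹ * x⁻¹) * v⁻¹) * m⁻¹ := by rw [← h1]; group
      _ = m * (u * x * u⁻¹ * x⁻¹) * m⁻¹ := by rw [h2, mul_inv_cancel_right]
  set U : Subgroup G := closure {w | ∃ m ∈ L, w = m * u * m⁻¹} with hU
  -- the elements of `U`
  have hP : ∀ b ∈ U, b ∈ Q ∧ (∀ x ∈ X, b * x * b⁻¹ * x⁻¹ ∈ N) ∧ ∀ x ∈ X, u * x = x * u → b * x = x * b := by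
    intro b hb
    induction hb using closure_induction with
    | mem b hb =>
      obtain ⟨m, hm, rfl⟩ := hb
      refine ⟨(mem_normalizer_iff.1 (LQ hm) u).1 hu, fun x hx => ?_, fun x hx hux => ?_⟩
      · rw [hgen m hm x hx]
        exact (mem_normalizer_iff.1 (LN hm) _).1 (lN (ul x hx))
      · have h1 := hgen m hm x hx
        rw [show u * x * u⁻¹ * x⁻¹ = 1 by rw [hux]; group, mul_one, mul_inv_cancel] at h1
        calc (m * u * m⁻¹) * x = ((m * u * m⁻¹) * x * (m * u * m⁻¹)⁻¹ * x⁻¹) * (x * (m * u * m⁻¹)) := by group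
          _ = x * (m * u * m⁻¹) := by rw [h1, one_mul]
    | one => exact ⟨one_mem _, fun x hx => by simp, fun x hx _ => by simp⟩
    | mul a b ha hb iha ihb =>
      refine ⟨mul_mem iha.1 ihb.1, fun x hx => ?_, fun x hx hux => ?_⟩
      · have h1 : a * (b * x * b⁻¹ * x⁻¹) * a⁻¹ = b * x * b⁻¹ * x⁻¹ := by
          have h2 := mem_centralizer_iff.1 (QV iha.1) _ (NV (ihb.2.1 x hx))
          rw [← h2, mul_inv_cancel_right]
        have e1 : a * b * x * (a * b)⁻¹ * x⁻¹ = (a * (b * x * b⁻¹ * x⁻¹) * a⁻¹) * (a * x * a⁻¹ * x⁻¹) := by group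
        rw [e1, h1]
        exact mul_mem (ihb.2.1 x hx) (iha.2.1 x hx)
      · rw [mul_assoc, ihb.2.2 x hx hux, ← mul_assoc, iha.2.2 x hx hux, mul_assoc]
    | inv b hb ih =>
      refine ⟨inv_mem ih.1, fun x hx => ?_, fun x hx hux => ?_⟩
      · have h1 : b⁻¹ * (b * x * b⁻¹ * x⁻¹)⁻¹ * b = (b * x * b⁻¹ * x⁻¹)⁻¹ := by
          have h2 := mem_centralizer_iff.1 (QV ih.1) _ (NV (inv_mem (ih.2.1 x hx)))
          calc b⁻¹ * (b * x * b⁻¹ * x⁻¹)⁻¹ * b = b⁻¹ * ((b * x * b⁻¹ * x⁻¹)⁻¹ * b) := by group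
            _ = b⁻¹ * (b * (b * x * b⁻¹ * x⁻¹)⁻¹) := by rw [h2]
            _ = (b * x * b⁻¹ * x⁻¹)⁻¹ := by group
        have e1 : b⁻¹ * x * b⁻¹⁻¹ * x⁻¹ = b⁻¹ * (b * x * b⁻¹ * x⁻¹)⁻¹ * b := by group
        rw [e1, h1]
        exact inv_mem (ih.2.1 x hx)
      · have h1 := ih.2.2 x hx hux
        calc b⁻¹ * x = b⁻¹ * (x * b) * b⁻¹ := by group
          _ = b⁻¹ * (b * x) * b⁻¹ := by rw [h1]
          _ = x * b⁻¹ := by group
  -- multiplicativity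
  have hmul : ∀ a ∈ U, ∀ b ∈ U, ∀ x ∈ X, a * b * x * (a * b)⁻¹ * x⁻¹ = (a * x * a⁻¹ * x⁻¹) * (b * x * b⁻¹ * x⁻¹) := by
    intro a ha b hb x hx
    have h1 : a * (b * x * b⁻¹ * x⁻¹) * a⁻¹ = b * x * b⁻¹ * x⁻¹ := by
      have h2 := mem_centralizer_iff.1 (QV (hP a ha).1) _ (NV ((hP b hb).2.1 x hx))
      rw [← h2, mul_inv_cancel_right]
    have e1 : a * b * x * (a * b)⁻¹ * x⁻¹ = (a * (b * x * b⁻¹ * x⁻¹) * a⁻¹) * (a * x * a⁻¹ * x⁻¹) := by group
    rw [e1, h1]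
    exact cX _ (NX ((hP b hb).2.1 x hx)) _ (NX ((hP a ha).2.1 x hx))
  have hUX : ∀ a ∈ U, ∀ x ∈ X, a * x * a⁻¹ ∈ X := by
    intro a ha x hx
    have e1 : a * x * a⁻¹ = (a * x * a⁻¹ * x⁻¹) * x := by group
    rw [e1]
    exact mul_mem (NX ((hP a ha).2.1 x hx)) hx
  have hEl : ElemM X U := by
    refine ⟨fun b hb => ?_, fun a ha b hb => ?_⟩
    · rw [mem_centralizer_iff]
      intro x hx
      have h1 := hmul b hb b hb x hx
      have h2 := sqN _ ((hP b hb).2.1 x hx)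
      rw [pow_two] at h2 ⊢
      rw [h2] at h1
      exact comm_of h1
    · rw [mem_centralizer_iff]
      intro y hy
      -- `y = (ba) x (ba)⁻¹`
      set x : G := (b * a)⁻¹ * y * (b * a) with hx
      have hxX : x ∈ X := by
        have := hUX (b * a)⁻¹ (inv_mem (mul_mem hb ha)) y hy
        rwa [inv_inv] at this
      have h1 := hmul a ha b hb x hxX
      have h2 := hmul b hb a ha x hxX
      rw [cX _ (NX ((hP b hb).2.1 x hxX)) _ (NX ((hP a ha).2.1 x hxX)), ← h1] at h2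
      have h3 : b * a * x * (b * a)⁻¹ = a * b * x * (a * b)⁻¹ := mul_right_cancel h2
      have h4 : b * a * x * (b * a)⁻¹ = y := by rw [hx]; group
      rw [h4] at h3
      calc y * (a * b * a⁻¹ * b⁻¹) = (a * b * x * (a * b)⁻¹) * (a * b * a⁻¹ * b⁻¹) := by rw [← h3]
        _ = (a * b * a⁻¹ * b⁻¹) * (b * a * x * (b * a)⁻¹) := by group
        _ = (a * b * a⁻¹ * b⁻¹) * y := by rw [h4]
  have hUQ : U ≤ Q := fun b hb => (hP b hb).1
  have h1 := no U (hUQ.trans QS) hEl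
  -- `|X| ≤ |C_X(U)| |l|`
  have h2 : Nat.card X ≤ Nat.card ↥(X ⊓ centralizer (U : Set G)) * Nat.card l := by
    let f : X →* l := MonoidHom.mk' (fun x => ⟨u * x * u⁻¹ * (x : G)⁻¹, ul x x.2⟩) (by
      intro x y
      apply Subtype.ext
      change u * ((x * y : X) : G) * u⁻¹ * ((x * y : X) : G)⁻¹ = (u * x * u⁻¹ * (x : G)⁻¹) * (u * y * u⁻¹ * (y : G)⁻¹)
      have h3 : (x : G) * (u * y * u⁻¹ * (y : G)⁻¹) = (u * y * u⁻¹ * (y : G)⁻¹) * x := cX x x.2 _ (lX (ul y y.2))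
      calc u * ((x * y : X) : G) * u⁻¹ * ((x * y : X) : G)⁻¹
          = (u * x * u⁻¹ * (x : G)⁻¹) * (x * (u * y * u⁻¹ * (y : G)⁻¹)) * (x : G)⁻¹ := by rw [Subgroup.coe_mul]; group
        _ = (u * x * u⁻¹ * (x : G)⁻¹) * (u * y * u⁻¹ * (y : G)⁻¹) := by rw [h3]; group)
    have h3 : Nat.card X = Nat.card f.ker * Nat.card f.range := by
      rw [← index_ker f, card_mul_index]
    have h4 : Nat.card f.ker ≤ Nat.card ↥(X ⊓ centralizer (U : Set G)) := by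
      rw [← Subgroup.card_map_of_injective (K := f.ker) X.subtype_injective]
      refine Subgroup.card_le_of_le ?_
      rintro _ ⟨x, hx, rfl⟩
      refine mem_inf.2 ⟨x.2, mem_centralizer_iff.2 fun b hb => ?_⟩
      refine (hP b hb).2.2 x x.2 ?_
      have h5 : u * (x : G) * u⁻¹ * (x : G)⁻¹ = 1 := congrArg Subtype.val (show f x = 1 from hx)
      calc u * (x : G) = (u * (x : G) * u⁻¹ * (x : G)⁻¹) * (x * u) := by group
        _ = x * u := by rw [h5, one_mul]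
    have h5 : Nat.card f.range ≤ Nat.card l :=
      Nat.card_le_card_of_injective (Subtype.val : f.range → l) Subtype.val_injective
    rw [h3]
    exact Nat.mul_le_mul h4 h5
  -- `|U| ≥ |C_U(X)| |N|`
  have h3 : Nat.card ↥(U ⊓ centralizer (X : Set G)) * Nat.card N ≤ Nat.card U := by
    let p : U →* N := MonoidHom.mk' (fun b => ⟨b * x₀ * (b : G)⁻¹ * x₀⁻¹, (hP b b.2).2.1 x₀ hx₀⟩) (by
      intro a b
      apply Subtype.ext
      exact hmul a a.2 b b.2 x₀ hx₀)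
    have h4 : Nat.card U = Nat.card p.ker * Nat.card p.range := by
      rw [← index_ker p, card_mul_index]
    have h5 : Nat.card ↥(U ⊓ centralizer (X : Set G)) ≤ Nat.card p.ker := by
      rw [← Subgroup.card_map_of_injective (K := p.ker) U.subtype_injective]
      refine Subgroup.card_le_of_le ?_
      rintro b ⟨hb, hbX⟩
      refine ⟨⟨b, hb⟩, ?_, rfl⟩
      change p ⟨b, hb⟩ = 1
      apply Subtype.ext
      change b * x₀ * b⁻¹ * x₀⁻¹ = 1
      rw [← mem_centralizer_iff.1 hbX x₀ hx₀]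
      group
    have h6 : N ≤ p.range.map N.subtype := by
      refine (gen c hcl hc1).trans ?_
      rw [closure_le]
      rintro _ ⟨m, hm, rfl⟩
      refine ⟨p ⟨m * u * m⁻¹, subset_closure ⟨m, hm, rfl⟩⟩, ⟨_, rfl⟩, ?_⟩
      exact hgen m hm x₀ hx₀
    have h7 : Nat.card N ≤ Nat.card p.range := by
      rw [← Subgroup.card_map_of_injective (K := p.range) N.subtype_injective]
      exact Subgroup.card_le_of_le h6
    rw [h4]
    exact Nat.mul_le_mul h5 h7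
  -- the contradiction
  have p1 : 0 < Nat.card ↥(X ⊓ centralizer (U : Set G)) := Nat.card_pos
  have p2 : 0 < Nat.card ↥(U ⊓ centralizer (X : Set G)) := Nat.card_pos
  have h4 : Nat.card N ≤ Nat.card l := by
    apply Nat.le_of_mul_le_mul_left _ (Nat.mul_pos p2 p1)
    calc Nat.card ↥(U ⊓ centralizer (X : Set G)) * Nat.card ↥(X ⊓ centralizer (U : Set G)) * Nat.card N
        = (Nat.card ↥(U ⊓ centralizer (X : Set G)) * Nat.card N) * Nat.card ↥(X ⊓ centralizer (U : Set G)) := by ring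
      _ ≤ Nat.card U * Nat.card ↥(X ⊓ centralizer (U : Set G)) := Nat.mul_le_mul_right _ h3
      _ ≤ Nat.card X * Nat.card ↥(U ⊓ centralizer (X : Set G)) := h1
      _ ≤ (Nat.card ↥(X ⊓ centralizer (U : Set G)) * Nat.card l) * Nat.card ↥(U ⊓ centralizer (X : Set G)) :=
        Nat.mul_le_mul_right _ h2
      _ = Nat.card ↥(U ⊓ centralizer (X : Set G)) * Nat.card ↥(X ⊓ centralizer (U : Set G)) * Nat.card l := by ring
  exact absurd hcard (not_lt.2 h4)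

end Cfsg.Agent.Omega.NOThreeL.RLev.VXu

end

section


/-!
# #27445 (helper553), step (2), in the form of #28138

`comm_cent` : `[a, g] ∈ C(X)` for `a ∈ A`, `g ∈ S ⊓ C(V)`.
-/

set_option autoImplicit false
set_option linter.unusedSectionVars false

namespace Cfsg.Agent.Omega.NOThreeL.RLev.VXc

open Subgroup Cfsg
open Cfsg.Agent.Omega.FFThm
open Cfsg.Agent.Omega.NOThreeL.RLev.VXu (comm_of)

universe u

variable {G : Type u} [Group G]

/-- the form of `u_cent` with an arbitrary `L`-invariant subgroup `W` instead of `N` -/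
theorem u_cent' [Finite G] {S X V Q l L : Subgroup G} {u : G} (no : NoOverM X S) (QS : Q ≤ S)
    (Xc : X ≤ centralizer (X : Set G)) (hX2 : ∀ x ∈ X, x ^ 2 = 1) (VX : V ≤ X) (QV : Q ≤ centralizer (V : Set G))
    (lV : l ≤ V) (hu : u ∈ Q) (ul : ∀ x ∈ X, u * x * u⁻¹ * x⁻¹ ∈ l)
    (LX : ∀ m ∈ L, ∀ x ∈ X, m * x * m⁻¹ * x⁻¹ ∈ V) (LQ : L ≤ normalizer (Q : Set G))
    (big : ∀ c ∈ l, c ≠ 1 → ∀ W : Subgroup G, W ≤ V → c ∈ W → L ≤ normalizer (W : Set G) → Nat.card l < Nat.card W) :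
    u ∈ centralizer (X : Set G) := by
  by_contra hne
  have hex : ∃ x₀ ∈ X, u * x₀ * u⁻¹ * x₀⁻¹ ≠ 1 := by
    by_contra hcon
    push Not at hcon
    apply hne
    rw [mem_centralizer_iff]
    intro x hx
    exact comm_of (hcon x hx)
  obtain ⟨x₀, hx₀, hc1⟩ := hex
  set c : G := u * x₀ * u⁻¹ * x₀⁻¹ with hc
  have hcl : c ∈ l := ul x₀ hx₀
  have LV : L ≤ normalizer (V : Set G) := fun m hm => Cfsg.Agent.ZN.ChoiceBase.mem_normalizer_of_cj_le (by
    rintro _ ⟨v, hv, rfl⟩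
    have h1 := mul_mem (LX m hm v (VX hv)) hv
    rwa [inv_mul_cancel_right] at h1)
  set W : Subgroup G := closure {x | ∃ m ∈ L, x = m * c * m⁻¹} with hW
  have hWV : W ≤ V := by
    rw [hW, closure_le]
    rintro _ ⟨m, hm, rfl⟩
    exact (mem_normalizer_iff.1 (LV hm) c).1 (lV hcl)
  have hcW : c ∈ W := subset_closure ⟨1, one_mem _, by group⟩
  have hLW : L ≤ normalizer (W : Set G) := fun m hm => Cfsg.Agent.ZN.ChoiceBase.mem_normalizer_of_cj_le (by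
    change W.map (MulAut.conj m).toMonoidHom ≤ W
    rw [map_le_iff_le_comap, hW, closure_le]
    rintro _ ⟨m', hm', rfl⟩
    refine subset_closure ⟨m * m', mul_mem hm hm', ?_⟩
    change m * (m' * c * m'⁻¹) * m⁻¹ = _
    group)
  have hb := big c hcl hc1 W hWV hcW hLW
  -- the group `⟨u ^ L⟩`
  have cX : ∀ x ∈ X, ∀ y ∈ X, x * y = y * x := fun x hx y hy => mem_centralizer_iff.1 (Xc hy) x hx
  have lX : l ≤ X := lV.trans VX
  have hgen : ∀ m ∈ L, ∀ x ∈ X, (m * u * m⁻¹) * x * (m * u * m⁻¹)⁻¹ * x⁻¹ = m * (u * x * u⁻¹ * x⁻¹) * m⁻¹ := by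
    intro m hm x hx
    set v : G := m⁻¹ * x * m * x⁻¹ with hv
    have hvV : v ∈ V := by
      have := LX m⁻¹ (inv_mem hm) x hx
      rwa [inv_inv] at this
    have e1 : m⁻¹ * x * m = v * x := by rw [hv]; group
    have h1 : v * u = u * v := mem_centralizer_iff.1 (QV hu) v hvV
    have h2 : v * (u * x * u⁻¹ * x⁻¹) = (u * x * u⁻¹ * x⁻¹) * v := cX v (VX hvV) _ (lX (ul x hx))
    calc (m * u * m⁻¹) * x * (m * u * m⁻¹)⁻¹ * x⁻¹
        = m * (u * (m⁻¹ * x * m) * u⁻¹ * (m⁻¹ * x * m)⁻¹) * m⁻¹ := by group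
      _ = m * ((u * v) * x * u⁻¹ * x⁻¹ * v⁻¹) * m⁻¹ := by rw [e1]; group
      _ = m * (v * (u * x * u⁻¹ * x⁻¹) * v⁻¹) * m⁻¹ := by rw [← h1]; group
      _ = m * (u * x * u⁻¹ * x⁻¹) * m⁻¹ := by rw [h2, mul_inv_cancel_right]
  set U : Subgroup G := closure {w | ∃ m ∈ L, w = m * u * m⁻¹} with hU
  have hP : ∀ b ∈ U, b ∈ Q ∧ (∀ x ∈ X, b * x * b⁻¹ * x⁻¹ ∈ V) ∧ ∀ x ∈ X, u * x = x * u → b * x = x * b := by
    intro b hb
    induction hb using closure_induction with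
    | mem b hb =>
      obtain ⟨m, hm, rfl⟩ := hb
      refine ⟨(mem_normalizer_iff.1 (LQ hm) u).1 hu, fun x hx => ?_, fun x hx hux => ?_⟩
      · rw [hgen m hm x hx]
        exact (mem_normalizer_iff.1 (LV hm) _).1 (lV (ul x hx))
      · have h1 := hgen m hm x hx
        rw [show u * x * u⁻¹ * x⁻¹ = 1 by rw [hux]; group, mul_one, mul_inv_cancel] at h1
        exact (comm_of h1).symm
    | one => exact ⟨one_mem _, fun x hx => by simp, fun x hx _ => by simp⟩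
    | mul a b ha hb iha ihb =>
      refine ⟨mul_mem iha.1 ihb.1, fun x hx => ?_, fun x hx hux => ?_⟩
      · have h1 : a * (b * x * b⁻¹ * x⁻¹) * a⁻¹ = b * x * b⁻¹ * x⁻¹ := by
          have h2 := mem_centralizer_iff.1 (QV iha.1) _ (ihb.2.1 x hx)
          rw [← h2, mul_inv_cancel_right]
        have e1 : a * b * x * (a * b)⁻¹ * x⁻¹ = (a * (b * x * b⁻¹ * x⁻¹) * a⁻¹) * (a * x * a⁻¹ * x⁻¹) := by group
        rw [e1, h1]
        exact mul_mem (ihb.2.1 x hx) (iha.2.1 x hx)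
      · rw [mul_assoc, ihb.2.2 x hx hux, ← mul_assoc, iha.2.2 x hx hux, mul_assoc]
    | inv b hb ih =>
      refine ⟨inv_mem ih.1, fun x hx => ?_, fun x hx hux => ?_⟩
      · have h1 : b⁻¹ * (b * x * b⁻¹ * x⁻¹)⁻¹ * b = (b * x * b⁻¹ * x⁻¹)⁻¹ := by
          have h2 := mem_centralizer_iff.1 (QV ih.1) _ (inv_mem (ih.2.1 x hx))
          calc b⁻¹ * (b * x * b⁻¹ * x⁻¹)⁻¹ * b = b⁻¹ * ((b * x * b⁻¹ * x⁻¹)⁻¹ * b) := by group
            _ = b⁻¹ * (b * (b * x * b⁻¹ * x⁻¹)⁻¹) := by rw [h2]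
            _ = (b * x * b⁻¹ * x⁻¹)⁻¹ := by group
        have e1 : b⁻¹ * x * b⁻¹⁻¹ * x⁻¹ = b⁻¹ * (b * x * b⁻¹ * x⁻¹)⁻¹ * b := by group
        rw [e1, h1]
        exact inv_mem (ih.2.1 x hx)
      · have h1 := ih.2.2 x hx hux
        calc b⁻¹ * x = b⁻¹ * (x * b) * b⁻¹ := by group
          _ = b⁻¹ * (b * x) * b⁻¹ := by rw [h1]
          _ = x * b⁻¹ := by group
  have hmul : ∀ a ∈ U, ∀ b ∈ U, ∀ x ∈ X, a * b * x * (a * b)⁻¹ * x⁻¹ = (a * x * a⁻¹ * x⁻¹) * (b * x * b⁻¹ * x⁻¹) := by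
    intro a ha b hb x hx
    have h1 : a * (b * x * b⁻¹ * x⁻¹) * a⁻¹ = b * x * b⁻¹ * x⁻¹ := by
      have h2 := mem_centralizer_iff.1 (QV (hP a ha).1) _ ((hP b hb).2.1 x hx)
      rw [← h2, mul_inv_cancel_right]
    have e1 : a * b * x * (a * b)⁻¹ * x⁻¹ = (a * (b * x * b⁻¹ * x⁻¹) * a⁻¹) * (a * x * a⁻¹ * x⁻¹) := by group
    rw [e1, h1]
    exact cX _ (VX ((hP b hb).2.1 x hx)) _ (VX ((hP a ha).2.1 x hx))
  have hUX : ∀ a ∈ U, ∀ x ∈ X, a * x * a⁻¹ ∈ X := by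
    intro a ha x hx
    have e1 : a * x * a⁻¹ = (a * x * a⁻¹ * x⁻¹) * x := by group
    rw [e1]
    exact mul_mem (VX ((hP a ha).2.1 x hx)) hx
  have hEl : ElemM X U := by
    refine ⟨fun b hb => ?_, fun a ha b hb => ?_⟩
    · rw [mem_centralizer_iff]
      intro x hx
      have h1 := hmul b hb b hb x hx
      have h2 := hX2 _ (VX ((hP b hb).2.1 x hx))
      rw [pow_two] at h2 ⊢
      rw [h2] at h1
      exact comm_of h1
    · rw [mem_centralizer_iff]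
      intro y hy
      set x : G := (b * a)⁻¹ * y * (b * a) with hx
      have hxX : x ∈ X := by
        have := hUX (b * a)⁻¹ (inv_mem (mul_mem hb ha)) y hy
        rwa [inv_inv] at this
      have h1 := hmul a ha b hb x hxX
      have h2 := hmul b hb a ha x hxX
      rw [cX _ (VX ((hP b hb).2.1 x hxX)) _ (VX ((hP a ha).2.1 x hxX)), ← h1] at h2
      have h3 : b * a * x * (b * a)⁻¹ = a * b * x * (a * b)⁻¹ := mul_right_cancel h2
      have h4 : b * a * x * (b * a)⁻¹ = y := by rw [hx]; group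
      rw [h4] at h3
      calc y * (a * b * a⁻¹ * b⁻¹) = (a * b * x * (a * b)⁻¹) * (a * b * a⁻¹ * b⁻¹) := by rw [← h3]
        _ = (a * b * a⁻¹ * b⁻¹) * (b * a * x * (b * a)⁻¹) := by group
        _ = (a * b * a⁻¹ * b⁻¹) * y := by rw [h4]
  have hUQ : U ≤ Q := fun b hb => (hP b hb).1
  have h1 := no U (hUQ.trans QS) hEl
  have h2 : Nat.card X ≤ Nat.card ↥(X ⊓ centralizer (U : Set G)) * Nat.card l := by
    let f : X →* l := MonoidHom.mk' (fun x => ⟨u * x * u⁻¹ * (x : G)⁻¹, ul x x.2⟩) (by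
      intro x y
      apply Subtype.ext
      change u * ((x * y : X) : G) * u⁻¹ * ((x * y : X) : G)⁻¹ = (u * x * u⁻¹ * (x : G)⁻¹) * (u * y * u⁻¹ * (y : G)⁻¹)
      have h3 : (x : G) * (u * y * u⁻¹ * (y : G)⁻¹) = (u * y * u⁻¹ * (y : G)⁻¹) * x := cX x x.2 _ (lX (ul y y.2))
      calc u * ((x * y : X) : G) * u⁻¹ * ((x * y : X) : G)⁻¹
          = (u * x * u⁻¹ * (x : G)⁻¹) * (x * (u * y * u⁻¹ * (y : G)⁻¹)) * (x : G)⁻¹ := by rw [Subgroup.coe_mul]; group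
        _ = (u * x * u⁻¹ * (x : G)⁻¹) * (u * y * u⁻¹ * (y : G)⁻¹) := by rw [h3]; group)
    have h3 : Nat.card X = Nat.card f.ker * Nat.card f.range := by
      rw [← index_ker f, card_mul_index]
    have h4 : Nat.card f.ker ≤ Nat.card ↥(X ⊓ centralizer (U : Set G)) := by
      rw [← Subgroup.card_map_of_injective (K := f.ker) X.subtype_injective]
      refine Subgroup.card_le_of_le ?_
      rintro _ ⟨x, hx, rfl⟩
      refine mem_inf.2 ⟨x.2, mem_centralizer_iff.2 fun b hb => ?_⟩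
      refine (hP b hb).2.2 x x.2 ?_
      have h5 : u * (x : G) * u⁻¹ * (x : G)⁻¹ = 1 := congrArg Subtype.val (show f x = 1 from hx)
      exact (comm_of h5).symm
    have h5 : Nat.card f.range ≤ Nat.card l :=
      Nat.card_le_card_of_injective (Subtype.val : f.range → l) Subtype.val_injective
    rw [h3]
    exact Nat.mul_le_mul h4 h5
  have h3 : Nat.card ↥(U ⊓ centralizer (X : Set G)) * Nat.card W ≤ Nat.card U := by
    let p : U →* V := MonoidHom.mk' (fun b => ⟨b * x₀ * (b : G)⁻¹ * x₀⁻¹, (hP b b.2).2.1 x₀ hx₀⟩) (by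
      intro a b
      apply Subtype.ext
      exact hmul a a.2 b b.2 x₀ hx₀)
    have h4 : Nat.card U = Nat.card p.ker * Nat.card p.range := by
      rw [← index_ker p, card_mul_index]
    have h5 : Nat.card ↥(U ⊓ centralizer (X : Set G)) ≤ Nat.card p.ker := by
      rw [← Subgroup.card_map_of_injective (K := p.ker) U.subtype_injective]
      refine Subgroup.card_le_of_le ?_
      rintro b ⟨hb, hbX⟩
      refine ⟨⟨b, hb⟩, ?_, rfl⟩
      change p ⟨b, hb⟩ = 1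
      apply Subtype.ext
      change b * x₀ * b⁻¹ * x₀⁻¹ = 1
      rw [← mem_centralizer_iff.1 hbX x₀ hx₀]
      group
    have h6 : W ≤ p.range.map V.subtype := by
      rw [hW, closure_le]
      rintro _ ⟨m, hm, rfl⟩
      refine ⟨p ⟨m * u * m⁻¹, subset_closure ⟨m, hm, rfl⟩⟩, ⟨_, rfl⟩, ?_⟩
      exact hgen m hm x₀ hx₀
    have h7 : Nat.card W ≤ Nat.card p.range := by
      rw [← Subgroup.card_map_of_injective (K := p.range) V.subtype_injective]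
      exact Subgroup.card_le_of_le h6
    rw [h4]
    exact Nat.mul_le_mul h5 h7
  have p1 : 0 < Nat.card ↥(X ⊓ centralizer (U : Set G)) := Nat.card_pos
  have p2 : 0 < Nat.card ↥(U ⊓ centralizer (X : Set G)) := Nat.card_pos
  have h4 : Nat.card W ≤ Nat.card l := by
    apply Nat.le_of_mul_le_mul_left _ (Nat.mul_pos p2 p1)
    calc Nat.card ↥(U ⊓ centralizer (X : Set G)) * Nat.card ↥(X ⊓ centralizer (U : Set G)) * Nat.card W
        = (Nat.card ↥(U ⊓ centralizer (X : Set G)) * Nat.card W) * Nat.card ↥(X ⊓ centralizer (U : Set G)) := by ring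
      _ ≤ Nat.card U * Nat.card ↥(X ⊓ centralizer (U : Set G)) := Nat.mul_le_mul_right _ h3
      _ ≤ Nat.card X * Nat.card ↥(U ⊓ centralizer (X : Set G)) := h1
      _ ≤ (Nat.card ↥(X ⊓ centralizer (U : Set G)) * Nat.card l) * Nat.card ↥(U ⊓ centralizer (X : Set G)) :=
        Nat.mul_le_mul_right _ h2
      _ = Nat.card ↥(U ⊓ centralizer (X : Set G)) * Nat.card ↥(X ⊓ centralizer (U : Set G)) * Nat.card l := by ring
  exact absurd hb (not_lt.2 h4)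

/-- **(2) of #27445**, literal of #28138 -/
theorem comm_cent [Finite G] {S X V A l L : Subgroup G} (no : NoOverM X S) (hc : ∀ x ∈ X, ∀ y ∈ X, x * y = y * x)
    (hX2 : ∀ x ∈ X, x ^ 2 = 1) (SX : S ≤ normalizer (X : Set G)) (VX : V ≤ X)
    (LQ : L ≤ normalizer ((S ⊓ centralizer (V : Set G) : Subgroup G) : Set G))
    (LV : ∀ g ∈ L, ∀ x ∈ X, g * x * g⁻¹ * x⁻¹ ∈ V) (hA : A ≤ S) (AV : A ≤ normalizer (V : Set G))
    (hl : ∀ a ∈ A, ∀ x ∈ X, a * x * a⁻¹ * x⁻¹ ∈ l) (lV : l ≤ V)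
    (big : ∀ c ∈ l, c ≠ 1 → ∀ W : Subgroup G, W ≤ V → c ∈ W → L ≤ normalizer (W : Set G) → Nat.card l < Nat.card W) :
    ∀ a ∈ A, ∀ g ∈ S ⊓ centralizer (V : Set G), a * g * a⁻¹ * g⁻¹ ∈ centralizer (X : Set G) := by
  intro a ha g hg
  have Xc : X ≤ centralizer (X : Set G) := fun x hx => mem_centralizer_iff.2 fun y hy => hc y hy x hx
  have hgV : ∀ v ∈ V, g * v * g⁻¹ = v := fun v hv => by
    rw [← mem_centralizer_iff.1 hg.2 v hv, mul_inv_cancel_right]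
  -- `g a⁻¹ g⁻¹` moves `X` into `l`
  have h1 : ∀ x ∈ X, (g * a⁻¹ * g⁻¹) * x * (g * a⁻¹ * g⁻¹)⁻¹ * x⁻¹ ∈ l := by
    intro x hx
    have hx' : g⁻¹ * x * g ∈ X := by
      have := (mem_normalizer_iff.1 (inv_mem (SX hg.1)) x).1 hx
      rwa [inv_inv] at this
    have h2 := hl a⁻¹ (inv_mem ha) _ hx'
    have e1 : (g * a⁻¹ * g⁻¹) * x * (g * a⁻¹ * g⁻¹)⁻¹ * x⁻¹ =
        g * (a⁻¹ * (g⁻¹ * x * g) * a⁻¹⁻¹ * (g⁻¹ * x * g)⁻¹) * g⁻¹ := by group
    rw [e1, hgV _ (lV h2)]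
    exact h2
  have haX : ∀ x ∈ X, a * x * a⁻¹ ∈ X := fun x hx => (mem_normalizer_iff.1 (SX (hA ha)) x).1 hx
  have hu : a * g * a⁻¹ * g⁻¹ ∈ S ⊓ centralizer (V : Set G) := by
    refine mem_inf.2 ⟨mul_mem (mul_mem (mul_mem (hA ha) hg.1) (inv_mem (hA ha))) (inv_mem hg.1), ?_⟩
    rw [mem_centralizer_iff]
    intro v hv
    have hv' : a⁻¹ * v * a ∈ V := by
      have := (mem_normalizer_iff.1 (inv_mem (AV ha)) v).1 hv
      rwa [inv_inv] at this
    have h2 := hgV _ hv'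
    have h3 : g⁻¹ * v * g = v := by
      calc g⁻¹ * v * g = g⁻¹ * (g * v * g⁻¹) * g := by rw [hgV v hv]
        _ = v := by group
    have h4 : a * g * a⁻¹ * g⁻¹ * v * (a * g * a⁻¹ * g⁻¹)⁻¹ = v := by
      calc a * g * a⁻¹ * g⁻¹ * v * (a * g * a⁻¹ * g⁻¹)⁻¹ = a * (g * (a⁻¹ * (g⁻¹ * v * g) * a) * g⁻¹) * a⁻¹ := by group
        _ = a * (a⁻¹ * v * a) * a⁻¹ := by rw [h3, h2]
        _ = v := by group
    calc v * (a * g * a⁻¹ * g⁻¹) = a * g * a⁻¹ * g⁻¹ * v * (a * g * a⁻¹ * g⁻¹)⁻¹ * (a * g * a⁻¹ * g⁻¹) := by rw [h4]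
      _ = (a * g * a⁻¹ * g⁻¹) * v := by group
  refine u_cent' no inf_le_left Xc hX2 VX inf_le_right lV hu (fun x hx => ?_) LV LQ big
  -- `[a (g a⁻¹ g⁻¹), x]`
  have h2 := h1 x hx
  set b : G := g * a⁻¹ * g⁻¹ with hb
  have e1 : a * g * a⁻¹ * g⁻¹ = a * b := by rw [hb]; group
  rw [e1]
  have hbx : b * x * b⁻¹ ∈ X := by
    have e2 : b * x * b⁻¹ = (b * x * b⁻¹ * x⁻¹) * x := by group
    rw [e2]
    exact mul_mem (VX (lV h2)) hx
  have e3 : a * b * x * (a * b)⁻¹ * x⁻¹ = (a * (b * x * b⁻¹) * a⁻¹ * (b * x * b⁻¹)⁻¹) * (b * x * b⁻¹ * x⁻¹) := by group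
  rw [e3]
  exact mul_mem (hl a ha _ hbx) h2

end Cfsg.Agent.Omega.NOThreeL.RLev.VXc

end
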